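import Groth.Agent.TraceResLib.Weil
import Groth.Agent.S11010

/-!
# Hurwitz formula through residues
-/

open Module WithZero

namespace Groth.Agent.TraceResLib

open FunFld Groth.Agent.FFLib LocRes

universe u

section Coeff

variable {k : Type u} {K : Type*} [Field k] [Field K] [Algebra k K]

/-- The coefficient field of an expansion is finite over the base. -/
lemma finiteDimensional_coeff (hK : FG1 k K) {F : Type*} [Field F] [Algebra k F] {P : Place k K}
    {φ : K →ₐ[k] LaurentSeries F} (hφ : IsExpansionAt P.1 φ) : FiniteDimensional k F := by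
  let L : P.O →ₗ[k] F :=
    { toFun := fun x => (φ x).coeff 0
      map_add' := fun x y => by simp
      map_smul' := fun c x => by
        rw [RingHom.id_apply, coe_smul_O, Algebra.smul_def, map_mul φ, LocRes.map_algebraMap,
          HahnSeries.C_mul_eq_smul, HahnSeries.coeff_smul, smul_eq_mul, ← Algebra.smul_def] }
  have hle : LinearMap.ker (resL P) ≤ LinearMap.ker L := fun x hx => by
    rw [LinearMap.mem_ker] at hx ⊢
    refine LaurentSeries.coeff_zero_of_lt_valuation F (D := 1) ?_ zero_lt_one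
    rw [hφ.1]
    exact le_exp_neg_one_of_lt_one ((residue_eq_zero_iff_lt P x).1 hx)
  have := finiteDimensional_residue hK P
  have : FiniteDimensional k (P.O ⧸ LinearMap.ker (resL P)) := Module.Finite.equiv (resL P).quotKerEquivRange.symm
  exact Module.Finite.of_surjective ((LinearMap.ker (resL P)).liftQ L hle) fun a => by
    obtain ⟨f, hf, rfl⟩ := hφ.2.1 a
    exact ⟨Submodule.Quotient.mk ⟨f, hf⟩, rfl⟩

end Coeff

variable {k k' : Type u} {K K' : Type*} [Field k] [Field k'] [Field K] [Field K'] [Algebra k k'] [Algebra k K]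
  [Algebra K K'] [Algebra k' K'] [Algebra k K'] [IsScalarTower k k' K']

variable (k) in
lemma v_const_le [FiniteDimensional k k'] (P : Place k K') (c : k') : P.1 (algebraMap k' K' c) ≤ 1 := by
  rcases eq_or_ne (P.1 (algebraMap k' K' c)) 1 with h | h
  · exact h.le
  rcases eq_or_ne c 0 with rfl | hc
  · rw [map_zero, map_zero]; exact zero_le
  exact absurd ((Algebra.IsAlgebraic.isAlgebraic c).algebraMap)
    (transcendental_of_v_ne_one P.1 (fun c hc => v_const P hc) ((map_ne_zero _).2 hc) h)

variable (k) in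
/-- Places over the enlarged constant field are the places over the base. -/
def placesEquiv [FiniteDimensional k k'] : Place k' K' ≃ Place k K' where
  toFun Q := ⟨Q.1, fun c => by rw [IsScalarTower.algebraMap_apply k k' K']; exact Q.2.1 _, Q.2.2⟩
  invFun Q := ⟨Q.1, fun c => v_const_le k Q c, Q.2.2⟩
  left_inv _ := rfl
  right_inv _ := rfl

omit [Algebra k K] [Algebra K K'] [Algebra k' K'] [Algebra k K'] [IsScalarTower k k' K'] in
lemma finrank_of_semilinear {V W : Type*} [AddCommGroup V] [AddCommGroup W] [Module k' V] [Module k W] (e : V ≃+ W)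
    (he : ∀ (c : k) v, e (algebraMap k k' c • v) = c • e v) : finrank k W = finrank k k' * finrank k' V := by
  let _i : Module k V := Module.compHom V (algebraMap k k')
  have : IsScalarTower k k' V := ⟨fun a b x => by
    rw [Algebra.smul_def, mul_smul]
    rfl⟩
  rw [Module.finrank_mul_finrank k k' V]
  exact ({ e with map_smul' := he } : V ≃ₗ[k] W).finrank_eq.symm

variable (k) in
lemma deg_placesEquiv [FiniteDimensional k k'] (Q : Place k' K') :
    (placesEquiv k Q).deg = finrank k k' * Q.deg := by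
  refine finrank_of_semilinear (V := IsLocalRing.ResidueField Q.O)
    (W := IsLocalRing.ResidueField (placesEquiv k Q).O) (AddEquiv.refl (IsLocalRing.ResidueField Q.O)) fun c z => ?_
  obtain ⟨y, rfl⟩ := IsLocalRing.residue_surjective z
  refine ((resL Q).map_smul (algebraMap k k' c) y).symm.trans (Eq.trans ?_ ((resL (placesEquiv k Q)).map_smul c y))
  refine congrArg (IsLocalRing.residue Q.O) (Subtype.ext ?_)
  exact (coe_smul_O Q _ y).trans ((algebraMap_smul k' c (y : K')).trans (coe_smul_O (placesEquiv k Q) c y).symm)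

variable (k) in
lemma deg_equivMapDomain [FiniteDimensional k k'] (D : Divisor k' K') :
    Divisor.deg (Finsupp.equivMapDomain (placesEquiv k) D : Divisor k K') = finrank k k' * D.deg := by
  rw [Finsupp.equivMapDomain_eq_mapDomain, Divisor.deg, Divisor.deg,
    Finsupp.sum_mapDomain_index_inj (placesEquiv (k' := k') k).injective, Finsupp.mul_sum]
  exact Finsupp.sum_congr fun Q _ => by rw [deg_placesEquiv k Q]; push_cast; ring

variable [IsScalarTower k K K'] [FiniteDimensional k k'] [FiniteDimensional K K'] [Algebra.IsSeparable K K']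
  (hK : IsFunctionField k K) (hg : IsGeometric k K) (hK' : IsFunctionField k' K')
  (F : Place k K → Type*) [∀ P, Field (F P)] [∀ P, Algebra k (F P)]
  (φ : ∀ P, K →ₐ[k] LaurentSeries (F P)) (hφ : ∀ P, IsExpansionAt P.1 (φ P))
  (F' : Place k' K' → Type*) [∀ Q, Field (F' Q)] [∀ Q, Algebra k' (F' Q)]
  (ψ : ∀ Q, K' →ₐ[k'] LaurentSeries (F' Q)) (hψ : ∀ Q, IsExpansionAt Q.1 (ψ Q))

include hK hg hK' hφ hψ in
theorem hurwitz (hg' : IsGeometric k' K') (below : Place k' K' → Place k K) (e : Place k' K' → ℕ)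
    (he : ∀ Q (z : K), Q.1 (algebraMap K K' z) = (below Q).1 z ^ e Q)
    (x : K) (hx : ∀ P, vDiff (φ P) 1 x ≠ 0) (hx' : ∀ Q, vDiff (ψ Q) 1 (algebraMap K K' x) ≠ 0) :
    (Function.support fun Q => diffExp (φ (below Q)) (ψ Q) (e Q) x).Finite ∧
    (finrank k k' : ℤ) * (2 * (genus k' K' : ℤ) - 2) =
      (finrank K K' : ℤ) * (2 * (genus k K : ℤ) - 2) +
      (finrank k k' : ℤ) * ∑ᶠ Q, diffExp (φ (below Q)) (ψ Q) (e Q) x * (Q.deg : ℤ) := by
  classical
  have : ∀ P, FiniteDimensional k (F P) := fun P => finiteDimensional_coeff hK.1 (hφ P)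
  have : ∀ Q, FiniteDimensional k' (F' Q) := fun Q => finiteDimensional_coeff hK'.1 (hψ Q)
  obtain ⟨P₀⟩ := exists_place hK
  obtain ⟨Q₀⟩ := exists_place hK'
  have hxD := DiffExp.D_ne_zero_of_vDiff (hx P₀)
  have hxD' := DiffExp.D_ne_zero_of_vDiff (hx' Q₀)
  obtain ⟨C, hC, hCd⟩ := exists_divisor hK hg F φ hφ hxD
  obtain ⟨C', hC', hCd'⟩ := exists_divisor hK' hg' F' ψ hψ hxD'
  have hdeg := (canonical_ell_deg hK ⟨_, resForm_ne_zero hK hg F φ hφ hxD, hCd⟩).2
  have hdeg' := (canonical_ell_deg hK' ⟨_, resForm_ne_zero hK' hg' F' ψ hψ hxD', hCd'⟩).2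
  set d : Divisor k' K' := C' - Finsupp.equivMapDomain (placesEquiv k).symm (conorm K' C) with hd
  have hdQ : ∀ Q, d Q = diffExp (φ (below Q)) (ψ Q) (e Q) x := fun Q => by
    have hu : IsOverWith (placesEquiv (k' := k') k Q) (below Q) (e Q) := he Q
    rw [hd, Finsupp.sub_apply, Finsupp.equivMapDomain_apply, Equiv.symm_symm, conorm_apply hK.1,
      (under_eq hK.1 hu).1, (under_eq hK.1 hu).2, hC', hC, diffExp, mul_comm]
  refine ⟨d.finite_support.subset fun Q hQ => ?_, ?_⟩
  · rw [Function.mem_support] at hQ ⊢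
    rwa [hdQ]
  have hsum : ∑ᶠ Q, diffExp (φ (below Q)) (ψ Q) (e Q) x * (Q.deg : ℤ) = d.deg := by
    rw [finsum_eq_sum_of_support_subset (s := d.support) _ fun Q hQ => ?_]
    · exact Finset.sum_congr rfl fun Q _ => by rw [hdQ]
    · rw [Finset.mem_coe, Finsupp.mem_support_iff, hdQ]
      exact left_ne_zero_of_mul hQ
  have key := deg_equivMapDomain k d
  have e1 : (Finsupp.equivMapDomain (placesEquiv k) d : Divisor k K') =
      Finsupp.equivMapDomain (placesEquiv k) C' - conorm K' C := Finsupp.ext fun Q => by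
    rw [hd]
    simp [Finsupp.equivMapDomain_apply]
  rw [e1, FFLib.deg_sub, deg_equivMapDomain, deg_conorm hK.1, hdeg, hdeg'] at key
  rw [hsum]
  linear_combination key

end Groth.Agent.TraceResLib
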