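import Groth.Agent.TraceResLib.Dual
import Groth.Agent.FFLib.Quadratic
import Mathlib.RingTheory.DedekindDomain.Different
import Mathlib.RingTheory.Valuation.Extension

/-!
# The different exponent and generators
-/

open Module WithZero Polynomial

namespace Groth.Agent.TraceResLib

open FunFld Groth.Agent.FFLib LocRes

universe u

variable {k : Type u} {K K' : Type*} [Field k] [Field K] [Field K'] [Algebra k K] [Algebra K K'] [Algebra k K']
  [IsScalarTower k K K'] [FiniteDimensional K K'] [Algebra.IsSeparable K K']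

section Euler

variable {P : Place k K} [Algebra P.O K'] [IsScalarTower P.O K K'] {y : K'}

omit [IsScalarTower k K K'] [FiniteDimensional K K'] [Algebra.IsSeparable K K'] in
lemma inR_of_mem_adjoin (hy : IsIntegral P.O y) {z : K'} (hz : z ∈ Algebra.adjoin P.O ({y} : Set K')) : InR P z :=
  inR_of_isIntegral P (show z ∈ integralClosure P.O K' from
    Algebra.adjoin_le (Set.singleton_subset_iff.2 hy) hz)

/-- Euler: the dual of the monogenic order. -/
lemma dual_iff (hgen : IntermediateField.adjoin K ({y} : Set K') = ⊤) (hy : IsIntegral P.O y) (x : K') :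
    (∀ z ∈ Algebra.adjoin P.O ({y} : Set K'), P.1 (Algebra.trace K K' (x * z)) ≤ 1) ↔
      aeval y (derivative (minpoly K y)) * x ∈ Algebra.adjoin P.O ({y} : Set K') := by
  have hadj : Algebra.adjoin K ({y} : Set K') = ⊤ := by
    rw [← IntermediateField.adjoin_simple_toSubalgebra_of_isAlgebraic (Algebra.IsAlgebraic.isAlgebraic (R := K) y), hgen,
      IntermediateField.top_toSubalgebra]
  have hd0 : aeval y (derivative (minpoly K y)) ≠ 0 :=
    (Algebra.IsSeparable.isSeparable K y).aeval_derivative_ne_zero (minpoly.aeval K y)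
  have hM := traceForm_dualSubmodule_adjoin P.O K hadj hy
  have key : x ∈ (Algebra.traceForm K K').dualSubmodule (Subalgebra.toSubmodule (Algebra.adjoin P.O ({y} : Set K'))) ↔
      ∀ z ∈ Algebra.adjoin P.O ({y} : Set K'), P.1 (Algebra.trace K K' (x * z)) ≤ 1 := by
    rw [LinearMap.BilinForm.mem_dualSubmodule]
    refine forall₂_congr fun z _ => ?_
    rw [Algebra.traceForm_apply, Submodule.mem_one]
    exact ⟨fun ⟨c, hc⟩ => hc ▸ c.2, fun h => ⟨⟨_, h⟩, rfl⟩⟩
  rw [← key, hM, Submodule.mem_smul_pointwise_iff_exists]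
  constructor
  · rintro ⟨z, hz, rfl⟩
    rwa [smul_eq_mul, mul_inv_cancel_left₀ hd0]
  · exact fun h => ⟨_, h, by rw [smul_eq_mul, inv_mul_cancel_left₀ hd0]⟩

/-- The derivative kills the quotient by the monogenic order. -/
lemma derivative_mul_mem (hK : IsFunctionField k K) (hgen : IntermediateField.adjoin K ({y} : Set K') = ⊤)
    (hy : IsIntegral P.O y) {z : K'} (hz : InR P z) :
    aeval y (derivative (minpoly K y)) * z ∈ Algebra.adjoin P.O ({y} : Set K') :=
  (dual_iff hgen hy z).1 fun _w hw => v_trace_le_one hK.1 (inR_mul hz (inR_of_mem_adjoin hy hw))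

variable (hK : IsFunctionField k K) (hg : IsGeometric k K) {F : Type*} [Field F] [Algebra k F]
  {φ : K →ₐ[k] LaurentSeries F} (hφ : IsExpansionAt P.1 φ) {Q : Place k K'} {e : ℕ} (he : IsOverWith Q P e)
  {F' : Type*} [Field F'] [Algebra k F'] {ψ : K' →ₐ[k] LaurentSeries F'} (hψ : IsExpansionAt Q.1 ψ)
  {x : K} (hx : vDiff φ 1 x ≠ 0) (hx' : vDiff ψ 1 (algebraMap K K' x) ≠ 0)
include hK hg hφ he hψ hx hx'

/-- The different exponent is at most the order of the derivative. -/
theorem diffExp_le_ord_derivative (hgen : IntermediateField.adjoin K ({y} : Set K') = ⊤) (hy : IsIntegral P.O y) :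
    diffExp φ ψ e x ≤ Q.ord (aeval y (derivative (minpoly K y))) ∧
    (Q.ord (aeval y (derivative (minpoly K y))) = diffExp φ ψ e x →
      ∀ z : K', Q.1 z ≤ 1 → ∃ a ∈ Algebra.adjoin P.O ({y} : Set K'), ∃ b ∈ Algebra.adjoin P.O ({y} : Set K'),
        Q.1 b = 1 ∧ z * b = a) := by
  classical
  set δ := aeval y (derivative (minpoly K y))
  have hd0 : δ ≠ 0 := (Algebra.IsSeparable.isSeparable K y).aeval_derivative_ne_zero (minpoly.aeval K y)
  obtain ⟨ys, hys, hysQ⟩ := exists_traceDual hK hg hφ he hψ hx hx'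
  set d := diffExp φ ψ e x
  have hover : IsOver Q P := ⟨e, he⟩
  have hw : δ * ys ∈ Algebra.adjoin P.O ({y} : Set K') :=
    (dual_iff hgen hy ys).1 fun z hz => hys z (inR_of_mem_adjoin hy hz)
  have hle := inR_of_mem_adjoin hy hw Q hover
  rw [map_mul, hysQ, v_eq Q hd0, ← exp_add, ← exp_zero, exp_le_exp] at hle
  refine ⟨by omega, fun heq z hz => ?_⟩
  have hwQ : Q.1 (δ * ys) = 1 := by rw [map_mul, hysQ, v_eq Q hd0, ← exp_add, ← exp_zero, heq]; simp
  have hwR : ∀ u, InR P u → δ * ys * u ∈ Algebra.adjoin P.O ({y} : Set K') := fun u hu => by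
    rw [mul_assoc]
    refine (dual_iff hgen hy _).1 fun w hw' => ?_
    rw [mul_assoc]
    exact hys _ (inR_mul hu (inR_of_mem_adjoin hy hw'))
  obtain ⟨b, hb⟩ := weak_approx (overs (K' := K') hK.1 P) (fun R => if R = Q then 1 else 0)
    (fun R => if R = Q then 1 else max 0 (-R.ord z))
  have hQm := (mem_overs hK.1).2 hover
  have hbQ : Q.1 b = 1 := by
    have h := hb Q hQm
    rw [if_pos rfl, if_pos rfl] at h
    rw [show b = 1 + (b - 1) by ring, Valuation.map_add_eq_of_lt_left, map_one]
    rw [map_one]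
    exact h.trans_lt (by rw [← exp_zero, exp_lt_exp]; norm_num)
  have hboff : ∀ R, IsOver R P → R ≠ Q → R.1 b ≤ exp (-(max 0 (-R.ord z))) := fun R hR hne => by
    have := hb R ((mem_overs hK.1).2 hR)
    rwa [if_neg hne, if_neg hne, sub_zero] at this
  have hbR : InR P b := fun R hR => by
    rcases eq_or_ne R Q with rfl | hne
    · exact hbQ.le
    · exact (hboff R hR hne).trans (by rw [← exp_zero, exp_le_exp]; omega)
  have hzbR : InR P (z * b) := fun R hR => by
    rw [map_mul]
    rcases eq_or_ne R Q with rfl | hne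
    · rw [hbQ, mul_one]; exact hz
    rcases eq_or_ne z 0 with rfl | hz0
    · rw [map_zero, zero_mul]; exact zero_le
    refine (mul_le_mul' le_rfl (hboff R hR hne)).trans ?_
    rw [v_eq R hz0, ← exp_add, ← exp_zero, exp_le_exp]
    omega
  refine ⟨_, hwR (z * b) hzbR, δ * ys * b, hwR b hbR, by rw [map_mul, hwQ, hbQ, one_mul], by ring⟩

variable [P.1.HasExtension Q.1]
  (hf : Function.Surjective (algebraMap (IsLocalRing.ResidueField P.O) (IsLocalRing.ResidueField Q.O)))
  {s : K'} (hs : Q.1 s = exp (-1 : ℤ)) (hs' : ∀ Q' : Place k K', IsOver Q' P → Q' ≠ Q → Q'.1 s = 1)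

omit hg hφ hψ hx hx' [Algebra P.O K'] [IsScalarTower P.O K K'] in
include hf hs hs' in
/-- A parameter at one place, a unit at the others, generates. -/
theorem adjoin_eq_top_of_parameter : IntermediateField.adjoin K ({s} : Set K') = ⊤ := by
  classical
  set L := IntermediateField.adjoin K ({s} : Set K')
  have : IsScalarTower k L K' := IsScalarTower.of_algebraMap_eq fun c => rfl
  have hL : FG1 k L := fg1_ext hK.1
  set Q0 := underPlace hL Q with hQ0
  have hQQ0 := isOverWith_under hL Q
  obtain ⟨P0, e0, hP0⟩ := exists_over (K := K) hK.1 Q0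
  have hPP0 : P0 = P := by
    refine (isOverWith_unique (e := e0 * underIdx hL Q) ?_ he).1
    intro a
    rw [IsScalarTower.algebraMap_apply K L K', hQQ0, hP0, ← pow_mul]
  subst hPP0
  set sL : L := ⟨s, IntermediateField.mem_adjoin_simple_self K s⟩
  have hidx : underIdx hL Q = 1 := by
    have h := hQQ0 sL
    rw [show algebraMap L K' sL = s from rfl, hs] at h
    have hsL0 : sL ≠ 0 := fun h0 => by
      have h' : s = 0 := congrArg Subtype.val h0
      rw [h', map_zero] at hs
      exact exp_ne_zero hs.symm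
    rw [v_eq _ hsL0, ← exp_nsmul, exp_inj, nsmul_eq_mul] at h
    have hdvd : (underIdx hL Q : ℤ) ∣ 1 := ⟨(underPlace hL Q).ord sL, by linarith⟩
    exact_mod_cast Int.eq_one_of_dvd_one (Int.natCast_nonneg _) hdvd
  have hlt : Q0.1 sL < 1 := by
    rw [← isOverWith_lt_one_iff hQQ0, show algebraMap L K' sL = s from rfl, hs, ← exp_zero, exp_lt_exp]
    norm_num
  have honly : ∀ R : Place k K', R ∈ overs (K' := K') hL Q0 ↔ R = Q := fun R => by
    rw [mem_overs hL]
    refine ⟨fun ⟨e', he'⟩ => ?_, fun h => h ▸ ⟨_, hQQ0⟩⟩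
    by_contra hne
    have hR : IsOver R P0 := ⟨e0 * e', fun a => by
      rw [IsScalarTower.algebraMap_apply K L K', he', hP0, ← pow_mul]⟩
    have h1 := (isOverWith_lt_one_iff he' sL).2 hlt
    rw [show algebraMap L K' sL = s from rfl, hs' R hR hne] at h1
    exact lt_irrefl _ h1
  have hsum := sum_idx_deg_overs (K' := K') hL Q0
  rw [show overs (K' := K') hL Q0 = {Q} from Finset.ext fun R => by rw [honly, Finset.mem_singleton],
    Finset.sum_singleton, hidx, one_mul] at hsum
  have hdegP : P0.deg ≤ Q0.deg := by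
    have := deg_under_le (K' := L) hK.1 (Q := Q0)
    rwa [(under_eq hK.1 hP0).1] at this
  have hdegQ : Q.deg ≤ P0.deg := by
    let ι : IsLocalRing.ResidueField P0.O →ₗ[k] IsLocalRing.ResidueField Q.O :=
      { toFun := algebraMap (IsLocalRing.ResidueField P0.O) (IsLocalRing.ResidueField Q.O)
        map_add' := map_add _
        map_smul' := fun c z => by
          obtain ⟨u, rfl⟩ := IsLocalRing.residue_surjective z
          rw [RingHom.id_apply, ← resL_apply P0 u, ← (resL P0).map_smul, resL_apply,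
            IsLocalRing.ResidueField.algebraMap_residue, resL_apply, IsLocalRing.ResidueField.algebraMap_residue,
            ← resL_apply Q, ← resL_apply Q, ← (resL Q).map_smul]
          refine congrArg _ (Subtype.ext ?_)
          rw [coe_smul_O, Valuation.HasExtension.coe_algebraMap_valuationSubring_eq, coe_smul_O,
            Valuation.HasExtension.coe_algebraMap_valuationSubring_eq, Algebra.smul_def, Algebra.smul_def, map_mul,
            ← IsScalarTower.algebraMap_apply] }
    have := finiteDimensional_residue hK.1 P0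
    exact LinearMap.finrank_le_finrank_of_surjective (f := ι) hf
  have hpos : 0 < finrank L K' := finrank_pos
  have hQ0pos := deg_pos hL Q0
  refine eq_top_iff.2 fun z _ => ?_
  have h1 : finrank L K' = 1 := by nlinarith
  obtain ⟨c, hc⟩ := (finrank_eq_one_iff_of_nonzero' (1 : K') one_ne_zero).1 h1 z
  rw [← hc, Algebra.smul_def, mul_one]
  exact c.2

include hf hs hs' in
/-- The derivative at a parameter computes the different exponent. -/
theorem ord_derivative_parameter :
    Q.ord (aeval s (derivative (minpoly K s))) = diffExp φ ψ e x := by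
  classical
  have hgen := adjoin_eq_top_of_parameter hK he hf hs hs'
  have hover : IsOver Q P := ⟨e, he⟩
  have hsR : InR P s := fun R hR => by
    rcases eq_or_ne R Q with rfl | hne
    · rw [hs, ← exp_zero, exp_le_exp]; norm_num
    · exact (hs' R hR hne).le
  have hsi : IsIntegral P.O s := isIntegral_of_inR hK.1 P hsR
  set A := Algebra.adjoin P.O ({s} : Set K')
  set δ := aeval s (derivative (minpoly K s))
  have hd0 : δ ≠ 0 := (Algebra.IsSeparable.isSeparable K s).aeval_derivative_ne_zero (minpoly.aeval K s)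
  refine le_antisymm ?_ (diffExp_le_ord_derivative hK hg hφ he hψ hx hx' hgen hsi).1
  obtain ⟨t, ht0, -, ht⟩ := exists_uniformizer P
  have hT : ∀ R, IsOver R P → ∃ e' : ℕ, 0 < e' ∧ R.1 (algebraMap K K' t) = exp (-(e' : ℤ)) := fun R ⟨e', he'⟩ =>
    ⟨e', isOverWith_pos he', by rw [he', ht, ← exp_nsmul, nsmul_eq_mul]; congr 1; ring⟩
  -- approximation at `Q`
  have happ : ∀ z : K', Q.1 z ≤ 1 → ∀ m : ℕ, ∃ a ∈ A, Q.1 (z - a) ≤ exp (-(m : ℤ)) := by
    intro z hz m
    induction m with
    | zero => exact ⟨0, A.zero_mem, by simpa using hz⟩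
    | succ m ih =>
      obtain ⟨a, ha, hle⟩ := ih
      have hsm : Q.1 (s ^ m) = exp (-(m : ℤ)) := by rw [map_pow, hs, ← exp_nsmul, nsmul_eq_mul]; congr 1; ring
      have hr : Q.1 ((z - a) / s ^ m) ≤ 1 := by rw [map_div₀, hsm]; exact div_le_one_of_le₀ hle zero_le
      obtain ⟨cb, hcb⟩ := hf (IsLocalRing.residue Q.O ⟨_, hr⟩)
      obtain ⟨c, rfl⟩ := IsLocalRing.residue_surjective cb
      rw [IsLocalRing.ResidueField.algebraMap_residue, ← sub_eq_zero, ← map_sub, residue_eq_zero_iff_lt] at hcb
      refine ⟨a + algebraMap P.O K' c * s ^ m,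
        A.add_mem ha (A.mul_mem (A.algebraMap_mem c) (A.pow_mem (Algebra.self_mem_adjoin_singleton _ _) m)), ?_⟩
      have hs0 : s ≠ 0 := fun h => by rw [h, map_zero] at hs; exact exp_ne_zero hs.symm
      rw [IsScalarTower.algebraMap_apply P.O K K',
        show algebraMap P.O K c = (c : K) from rfl,
        show z - (a + algebraMap K K' (c : K) * s ^ m) =
          -((algebraMap K K' (c : K) - (z - a) / s ^ m) * s ^ m) by
            rw [sub_mul, div_mul_cancel₀ _ (pow_ne_zero _ hs0)]; ring,
        Valuation.map_neg, map_mul, hsm]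
      refine (mul_le_mul' (b := exp (-1 : ℤ)) (le_exp_neg_one_of_lt_one ?_) le_rfl).trans_eq
        (by rw [← exp_add]; congr 1; push_cast; ring)
      exact hcb
  -- the idempotent at `Q`
  obtain ⟨g, hgA, hgQ, hgoff⟩ : ∃ g ∈ A, Q.1 g = 1 ∧ ∀ R, IsOver R P → R ≠ Q → R.1 g < 1 := by
    have hmon := minpoly.monic hsi
    set p := minpoly P.O s
    have hex : ∃ i, ¬ P.1 ((p.coeff i : P.O) : K) < 1 := ⟨p.natDegree, by
      rw [hmon.coeff_natDegree]
      simp⟩
    set r := Nat.find hex with hr
    set cs : ℕ → K' := fun i => algebraMap K K' ((p.coeff i : P.O) : K)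
    have hcs : ∀ i, cs i = algebraMap P.O K' (p.coeff i) := fun i =>
      (IsScalarTower.algebraMap_apply P.O K K' (p.coeff i)).symm
    have hrd : r ≤ p.natDegree := Nat.find_min' hex (by rw [hmon.coeff_natDegree]; simp)
    set g := ∑ i ∈ Finset.range (p.natDegree + 1 - r), cs (r + i) * s ^ i with hgdef
    have hsum : s ^ r * g + ∑ i ∈ Finset.range r, cs i * s ^ i = 0 := by
      have h0 := minpoly.aeval P.O s
      rw [aeval_eq_sum_range, show p.natDegree + 1 = r + (p.natDegree + 1 - r) by omega, Finset.sum_range_add] at h0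
      rw [← h0, hgdef, Finset.mul_sum, add_comm]
      congr 1
      · exact Finset.sum_congr rfl fun i _ => by rw [hcs, Algebra.smul_def]
      · exact Finset.sum_congr rfl fun i _ => by rw [hcs, Algebra.smul_def, pow_add]; ring
    have hcle : ∀ R, IsOver R P → ∀ i, R.1 (cs i) ≤ 1 := fun R ⟨e', he'⟩ i =>
      (isOverWith_le_one_iff he' _).2 (p.coeff i).2
    refine ⟨g, ?_, ?_, fun R hR hne => ?_⟩
    · refine A.sum_mem fun i _ => A.mul_mem ?_ (A.pow_mem (Algebra.self_mem_adjoin_singleton _ _) i)
      rw [hcs]; exact A.algebraMap_mem _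
    · have hr0 : Q.1 (cs r) = 1 := by
        have h1 : P.1 ((p.coeff r : P.O) : K) = 1 := le_antisymm (p.coeff r).2 (not_lt.1 (Nat.find_spec hex))
        rw [show Q.1 (cs r) = P.1 ((p.coeff r : P.O) : K) ^ e from he _, h1, one_pow]
      rw [hgdef, show p.natDegree + 1 - r = (p.natDegree - r) + 1 by omega, Finset.sum_range_succ', pow_zero, mul_one,
        add_zero, Valuation.map_add_eq_of_lt_right, hr0]
      rw [hr0]
      refine Valuation.map_sum_lt _ one_ne_zero fun i _ => ?_
      rw [map_mul, map_pow]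
      refine lt_of_le_of_lt (mul_le_of_le_one_left' (hcle Q hover _)) ?_
      rw [hs, ← exp_nsmul, ← exp_zero, exp_lt_exp, nsmul_eq_mul]
      push_cast
      omega
    · have h1 : R.1 (s ^ r * g) < 1 := by
        rw [eq_neg_of_add_eq_zero_left hsum, Valuation.map_neg]
        refine Valuation.map_sum_lt _ one_ne_zero fun i hi => ?_
        rw [map_mul, map_pow, hs' R hR hne, one_pow, mul_one]
        obtain ⟨e', he'⟩ := hR
        exact (isOverWith_lt_one_iff he' _).2 (not_not.1 (Nat.find_min hex (Finset.mem_range.1 hi)))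
      rwa [map_mul, map_pow, hs' R hR hne, one_pow, one_mul] at h1
  -- an element of conductor type
  obtain ⟨n, hn⟩ : ∃ n : ℕ, ∀ R ∈ overs (K' := K') hK.1 P, R.ord δ ≤ n :=
    ⟨(overs (K' := K') hK.1 P).sup fun R => (R.ord δ).toNat, fun R hR => by
      have := Finset.le_sup (f := fun R : Place k K' => (R.ord δ).toNat) hR
      omega⟩
  set T := algebraMap K K' t with hTdef
  have hT0 : T ≠ 0 := (_root_.map_ne_zero _).2 ht0
  obtain ⟨N, hN⟩ : ∃ N : ℕ, ∀ R ∈ overs (K' := K') hK.1 P, -(N : ℤ) ≤ (n : ℤ) * log (R.1 T) :=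
    ⟨(overs (K' := K') hK.1 P).sup fun R => (-((n : ℤ) * log (R.1 T))).toNat, fun R hR => by
      have := Finset.le_sup (f := fun R : Place k K' => (-((n : ℤ) * log (R.1 T))).toNat) hR
      omega⟩
  have hcond : ∀ z, InR P z → g ^ N * z ∈ A := by
    intro z hz
    obtain ⟨a, ha, hza⟩ := happ z (hz Q hover) N
    have hgN : ∀ R, IsOver R P → R.1 (g ^ N * (z - a)) ≤ exp (-(N : ℤ)) := fun R hR => by
      rw [map_mul, map_pow]
      rcases eq_or_ne R Q with rfl | hne
      · rw [hgQ, one_pow, one_mul]; exact hza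
      · refine (mul_le_of_le_one_right' ?_).trans ((pow_le_pow_left' (le_exp_neg_one_of_lt_one (hgoff R hR hne)) N).trans_eq ?_)
        · exact (R.1.map_sub _ _).trans (max_le (hz R hR) (inR_of_mem_adjoin hsi ha R hR))
        · rw [← exp_nsmul, nsmul_eq_mul]; congr 1; ring
    set z' := g ^ N * (z - a) / T ^ n
    have hz' : InR P (T ^ n * z' / δ) := fun R hR => by
      have hR' := (mem_overs hK.1).2 hR
      obtain ⟨e', he'0, he'⟩ := hT R hR
      rw [map_div₀, map_mul, map_pow, map_div₀, map_pow, v_eq R hd0, he', ← exp_nsmul, nsmul_eq_mul]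
      have h1 : R.1 (g ^ N * (z - a)) / exp ((n : ℤ) * (-(e' : ℤ))) ≤ 1 := by
        refine div_le_one_of_le₀ ((hgN R hR).trans ?_) zero_le
        have := hN R hR'
        rw [he', log_exp] at this
        rw [exp_le_exp]; linarith
      refine div_le_one_of_le₀ ((mul_le_of_le_one_right' h1).trans ?_) zero_le
      rw [exp_le_exp]
      have := hn R hR'
      have : (1 : ℤ) ≤ e' := by exact_mod_cast he'0
      nlinarith [Int.natCast_nonneg n]
    have hmem : T ^ n * z' ∈ A := by
      have := derivative_mul_mem hK hgen hsi hz'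
      rwa [mul_div_cancel₀ _ hd0] at this
    rw [mul_div_cancel₀ _ (pow_ne_zero _ hT0)] at hmem
    have := A.add_mem hmem (A.mul_mem (A.pow_mem hgA N) ha)
    rwa [mul_sub, sub_add_cancel] at this
  have hy : ∀ z, InR P z → P.1 (Algebra.trace K K' (g ^ N / δ * z)) ≤ 1 := by
    intro z hz
    have h := (dual_iff hgen hsi (g ^ N / δ * z)).2 (by
      rw [← mul_assoc, mul_div_cancel₀ _ hd0]; exact hcond z hz) 1 A.one_mem
    rwa [mul_one] at h
  have h := v_le_of_traceDual hK hg hφ he hψ hx hx' hy
  rw [map_div₀, map_pow, hgQ, one_pow, v_eq Q hd0, one_div, ← exp_neg, neg_neg, exp_le_exp] at h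
  exact h

end Euler

end Groth.Agent.TraceResLib
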