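import Groth.Agent.TraceResLib.Hurwitz

/-!
# The trace dual and the different exponent
-/

open Module WithZero

namespace Groth.Agent.TraceResLib

open FunFld Groth.Agent.FFLib LocRes

universe u

variable {k : Type u} {K K' : Type*} [Field k] [Field K] [Field K'] [Algebra k K] [Algebra K K'] [Algebra k K']
  [IsScalarTower k K K'] [FiniteDimensional K K']
  (hK : IsFunctionField k K) (hg : IsGeometric k K)
  {P : Place k K} {F : Type*} [Field F] [Algebra k F] {φ : K →ₐ[k] LaurentSeries F} (hφ : IsExpansionAt P.1 φ)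

omit [Algebra K K'] [IsScalarTower k K K'] [FiniteDimensional K K'] in
include hK hg hφ in
/-- Integrality tested by residues against the differential of a uniformizer. -/
lemma v_le_one_of_pres [FiniteDimensional k F] {t : K} (ht : P.1 t = exp (-1 : ℤ)) {f : K}
    (h : ∀ c : K, P.1 c ≤ 1 → pres P (f * c) t = 0) : P.1 f ≤ 1 := by
  have : Algebra.IsSeparable k F :=
    (DiffExp.isSeparable_residue hK.1 hφ fun {x} hx a => DiffExp.exists_smul hK hg hx a).2
  by_contra hf
  rw [not_le] at hf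
  have hf0 : f ≠ 0 := fun e => by rw [e, map_zero] at hf; exact not_lt.2 zero_le hf
  have ht1 : P.1 t ≤ 1 := by rw [ht, ← exp_zero, exp_le_exp]; norm_num
  have hv := DiffExp.vDiff_uniformizer hφ ht
  obtain ⟨z, hz, hz0⟩ := exists_locRes_ne_zero' hφ (hv ▸ one_ne_zero) (n := 0)
    (by rw [ordDiff, hv, log_one, neg_zero])
  refine hz0 ?_
  rw [← pres_eq_locRes hK.1 hφ ht1, show z = f * (z / f) from (mul_div_cancel₀ z hf0).symm]
  refine h _ ?_
  rw [map_div₀]
  refine div_le_one_of_le₀ (hz.trans ?_) zero_le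
  rw [v_eq P hf0, exp_le_exp]
  have := (one_lt_v_iff P f).1 hf
  omega

omit hφ in
include hK hg in
/-- Coefficient fields above are separable over the constants. -/
lemma isSeparable_coeff_ext [Algebra.IsSeparable K K'] {F' : Type*} [Field F'] [Algebra k F'] {Q : Place k K'}
    {ψ : K' →ₐ[k] LaurentSeries F'} (hψ : IsExpansionAt Q.1 ψ) : Algebra.IsSeparable k F' := by
  obtain ⟨x₀, hs⟩ := GeomFFLib.exists_separating hK hg
  have hx₀ := (GeomFFLib.D_ne_zero_of_sep hK hs).1
  have hext : ∀ a : K', ∃ h : K', KaehlerDifferential.D k K' a = h • KaehlerDifferential.D k K' (algebraMap K K' x₀) :=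
    fun a => by
    have : Algebra.FormallyUnramified K K' := Algebra.FormallyUnramified.of_isSeparable K K'
    obtain ⟨z, hz⟩ := (KaehlerDifferential.exact_mapBaseChange_map k K K' (KaehlerDifferential.D k K' a)).1
      (Subsingleton.elim _ _)
    rw [← hz]
    clear hz
    induction z using TensorProduct.induction_on with
    | zero => exact ⟨0, by rw [map_zero, zero_smul]⟩
    | add a b ha hb =>
      obtain ⟨h₁, e₁⟩ := ha
      obtain ⟨h₂, e₂⟩ := hb
      exact ⟨h₁ + h₂, by rw [map_add, e₁, e₂, add_smul]⟩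
    | tmul c w =>
      obtain ⟨d, rfl⟩ := (finrank_eq_one_iff_of_nonzero' _ hx₀).1 (GeomFFLib.finrank_kaehler hK hg) w
      exact ⟨c * algebraMap K K' d, by
        rw [KaehlerDifferential.mapBaseChange_tmul, map_smul, KaehlerDifferential.map_D,
          ← algebraMap_smul K' d, mul_smul]⟩
  refine (DiffExp.isSeparable_residue (fg1_ext hK.1) hψ fun {x} hx a => ?_).2
  obtain ⟨a', ha'⟩ := hext x
  obtain ⟨b, hb⟩ := hext a
  have ha0 : a' ≠ 0 := fun h0 => DiffExp.D_ne_zero_of_vDiff hx (by rw [ha', h0, zero_smul])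
  exact ⟨b / a', by rw [hb, ha', smul_smul, div_mul_cancel₀ _ ha0]⟩

variable {Q : Place k K'} {e : ℕ} (he : IsOverWith Q P e) {F' : Type*} [Field F'] [Algebra k F']
  {ψ : K' →ₐ[k] LaurentSeries F'} (hψ : IsExpansionAt Q.1 ψ)

include hK hg he hφ hψ

/-- Elements of the trace dual are bounded by the different exponent. -/
theorem v_le_of_traceDual [Algebra.IsSeparable K K'] {x : K} (hx : vDiff φ 1 x ≠ 0)
    (hx' : vDiff ψ 1 (algebraMap K K' x) ≠ 0) {y : K'}
    (hy : ∀ z : K', InR P z → P.1 (Algebra.trace K K' (y * z)) ≤ 1) :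
    Q.1 y ≤ exp (diffExp φ ψ e x) := by
  classical
  obtain ⟨t, -, -, ht⟩ := exists_uniformizer P
  have ht1 : P.1 t ≤ 1 := by rw [ht, ← exp_zero, exp_le_exp]; norm_num
  have hd := DiffExp.diffExp_eq_uniformizer hK hg he hφ hψ hx hx' ht
  set d := diffExp φ ψ e x
  have hK' := fg1_ext (K' := K') hK.1
  have := finiteDimensional_coeff hK' hψ
  have := isSeparable_coeff_ext hK hg hψ
  have hvt : vDiff ψ 1 (algebraMap K K' t) = exp (-d) := by rw [DiffExp.vDiff_one, hd]
  by_contra hlt
  rw [not_le] at hlt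
  have hy0 : y ≠ 0 := fun e' => by rw [e', map_zero] at hlt; exact not_lt.2 zero_le hlt
  obtain ⟨z, hz, hz0⟩ := exists_locRes_ne_zero' hψ (hvt ▸ exp_ne_zero) (n := d)
    (by rw [ordDiff, hvt, log_exp, neg_neg])
  have hw : Q.1 (z / y) ≤ 1 := by
    rw [map_div₀]
    refine div_le_one_of_le₀ (hz.trans ?_) zero_le
    rw [v_eq Q hy0, exp_le_exp]
    rw [v_eq Q hy0, exp_lt_exp] at hlt
    omega
  obtain ⟨w, hwS⟩ := weak_approx (overs (K' := K') hK.1 P) (fun R => if R = Q then z / y else 0)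
    (fun R => (-R.ord y).toNat)
  have hprod : ∀ R ∈ overs (K' := K') hK.1 P, R.1 (y * (w - if R = Q then z / y else 0)) ≤ 1 := fun R hR => by
    rw [map_mul, v_eq R hy0]
    refine (mul_le_mul' le_rfl (hwS R hR)).trans ?_
    rw [← exp_add, ← exp_zero, exp_le_exp]
    omega
  have hwR : InR P w := fun R hR => by
    have h1 := hwS R ((mem_overs hK.1).2 hR)
    rw [show w = (w - if R = Q then z / y else 0) + if R = Q then z / y else 0 by ring]
    refine (R.1.map_add _ _).trans (max_le (h1.trans ?_) ?_)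
    · rw [← exp_zero, exp_le_exp]; omega
    · split_ifs with h
      · exact h ▸ hw
      · rw [map_zero]; exact zero_le
  have hsum := sum_pres_overs hK.1 P ht1 (y * w)
  rw [pres_of_int P ht1 (hy w hwR), Finset.sum_eq_single_of_mem Q ((mem_overs hK.1).2 ⟨e, he⟩)] at hsum
  · have htQ := (isOverWith_le_one_iff he t).2 ht1
    rw [pres_congr hK' Q htQ (f' := z), pres_eq_locRes hK' hψ htQ] at hsum
    · exact hz0 hsum
    have := hprod Q ((mem_overs hK.1).2 ⟨e, he⟩)
    rwa [if_pos rfl, mul_sub, mul_div_cancel₀ _ hy0] at this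
  · intro R hR hne
    obtain ⟨e', he'⟩ := (mem_overs hK.1).1 hR
    refine pres_of_int R ((isOverWith_le_one_iff he' t).2 ht1) ?_
    have := hprod R hR
    rwa [if_neg hne, sub_zero] at this

/-- The bound is attained. -/
theorem exists_traceDual [Algebra.IsSeparable K K'] {x : K} (hx : vDiff φ 1 x ≠ 0)
    (hx' : vDiff ψ 1 (algebraMap K K' x) ≠ 0) :
    ∃ y : K', (∀ z : K', InR P z → P.1 (Algebra.trace K K' (y * z)) ≤ 1) ∧
      Q.1 y = exp (diffExp φ ψ e x) := by
  classical
  obtain ⟨t, -, -, ht⟩ := exists_uniformizer P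
  have ht1 : P.1 t ≤ 1 := by rw [ht, ← exp_zero, exp_le_exp]; norm_num
  have hd := DiffExp.diffExp_eq_uniformizer hK hg he hφ hψ hx hx' ht
  set d := diffExp φ ψ e x
  have hK' := fg1_ext (K' := K') hK.1
  have := finiteDimensional_coeff hK.1 hφ
  have := finiteDimensional_coeff hK' hψ
  obtain ⟨a, ha⟩ := Q.2.2 (exp d)
  obtain ⟨y, hy⟩ := weak_approx (overs (K' := K') hK.1 P) (fun R => if R = Q then a else 0)
    (fun R => if R = Q then 1 - d else 0)
  have hQ := (mem_overs hK.1).2 (⟨e, he⟩ : IsOver Q P)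
  have hyQ : Q.1 y = exp d := by
    have h1 := hy Q hQ
    rw [if_pos rfl, if_pos rfl] at h1
    rw [show y = a + (y - a) by ring, Valuation.map_add_eq_of_lt_left _ (h1.trans_lt ?_), ha]
    rw [ha, exp_lt_exp]
    omega
  refine ⟨y, fun z hz => v_le_one_of_pres hK hg hφ ht fun c hc => ?_, hyQ⟩
  rw [show Algebra.trace K K' (y * z) * c = Algebra.trace K K' (algebraMap K K' c * (y * z)) by
      rw [← Algebra.smul_def, map_smul, smul_eq_mul, mul_comm],
    ← sum_pres_overs hK.1 P ht1]
  refine Finset.sum_eq_zero fun R hR => ?_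
  obtain ⟨e', he'⟩ := (mem_overs hK.1).1 hR
  have htR := (isOverWith_le_one_iff he' t).2 ht1
  have hcR := (isOverWith_le_one_iff he' c).2 hc
  have hzR := hz R ⟨e', he'⟩
  rcases eq_or_ne R Q with rfl | hne
  · rw [pres_eq_locRes hK' hψ htR]
    refine locRes_of_vDiff_le _ ?_
    rw [vDiff_mul hψ, DiffExp.vDiff_one, hd, map_mul, map_mul, hyQ]
    refine (mul_le_mul' (mul_le_mul' hcR (mul_le_mul' le_rfl hzR)) le_rfl).trans_eq ?_
    rw [one_mul, mul_one, ← exp_add, add_neg_cancel, exp_zero]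
  · refine pres_of_int R htR ?_
    have := hy R hR
    rw [if_neg hne, if_neg hne, sub_zero, neg_zero, exp_zero] at this
    rw [map_mul, map_mul]
    exact mul_le_one' hcR (mul_le_one' this hzR)

end Groth.Agent.TraceResLib
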