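import Groth.Agent.TraceResLib.Place
import Groth.Agent.FFLib.DiffExp3

/-!
# The trace formula for residues read through expansions
-/

open Module WithZero

namespace Groth.Agent.TraceResLib

open FunFld Groth.Agent.FFLib LocRes

universe u

variable {k : Type u} {K : Type*} [Field k] [Field K] [Algebra k K] (hK : IsFunctionField k K) (hg : IsGeometric k K)

include hK hg in
/-- Every differential is a multiple of the differential of a uniformizer. -/
lemma exists_smul_uniformizer {F : Type*} [Field F] [Algebra k F] {P : Place k K} {φ : K →ₐ[k] LaurentSeries F}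
    (hφ : IsExpansionAt P.1 φ) {t : K} (ht : P.1 t = exp (-1 : ℤ)) (x : K) :
    ∃ h : K, KaehlerDifferential.D k K x = h • KaehlerDifferential.D k K t :=
  DiffExp.exists_smul hK hg (φ := φ) (by rw [DiffExp.vDiff_uniformizer hφ ht]; exact one_ne_zero) x

/-- Residues are linear in the differential. -/
lemma locRes_smul {F : Type*} [Field F] [Algebra k F] (φ : K →ₐ[k] LaurentSeries F) {x t h : K}
    (hd : KaehlerDifferential.D k K x = h • KaehlerDifferential.D k K t) (u : K) :
    locRes φ u x = locRes φ (u * h) t := by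
  rw [locRes, locRes, resExp, resExp, DiffExp.deriv_eq φ hd, map_mul φ, mul_assoc]

include hK hg in
/-- The trace formula. -/
theorem locRes_trace {K' : Type*} [Field K'] [Algebra K K'] [Algebra k K'] [IsScalarTower k K K']
    [FiniteDimensional K K'] (P : Place k K) {F : Type*} [Field F] [Algebra k F] [FiniteDimensional k F]
    {φ : K →ₐ[k] LaurentSeries F} (hφ : IsExpansionAt P.1 φ)
    (Qs : Finset (Place k K')) (hQs : ∀ Q, Q ∈ Qs ↔ IsOver Q P)
    (F' : Place k K' → Type*) [∀ Q, Field (F' Q)] [∀ Q, Algebra k (F' Q)] [∀ Q, FiniteDimensional k (F' Q)]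
    (ψ : ∀ Q, K' →ₐ[k] LaurentSeries (F' Q)) (hψ : ∀ Q ∈ Qs, IsExpansionAt Q.1 (ψ Q)) (y : K') (x : K) :
    locRes φ (Algebra.trace K K' y) x = ∑ Q ∈ Qs, locRes (ψ Q) y (algebraMap K K' x) := by
  classical
  obtain ⟨t, -, -, ht⟩ := exists_uniformizer P
  obtain ⟨h, hd⟩ := exists_smul_uniformizer hK hg hφ ht x
  have ht1 : P.1 t ≤ 1 := by rw [ht, ← exp_zero, exp_le_exp]; norm_num
  have hQs' : Qs = overs hK.1 P := Finset.ext fun Q => (hQs Q).trans (mem_overs hK.1).symm
  rw [locRes_smul φ hd, ← pres_eq_locRes hK.1 hφ ht1,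
    show Algebra.trace K K' y * h = Algebra.trace K K' (algebraMap K K' h * y) by
      rw [← Algebra.smul_def, map_smul, smul_eq_mul, mul_comm],
    ← sum_pres_overs hK.1 P ht1, hQs']
  refine Finset.sum_congr rfl fun Q hQ => ?_
  have hQ' := hQs' ▸ hQ
  obtain ⟨e, he⟩ := (hQs Q).1 hQ'
  rw [pres_eq_locRes (fg1_ext hK.1) (hψ Q hQ') ((isOverWith_le_one_iff he t).2 ht1), locRes, locRes, resExp, resExp]
  have := DiffExp.deriv_eq ((ψ Q).comp (IsScalarTower.toAlgHom k K K')) hd
  simp only [AlgHom.comp_apply, IsScalarTower.toAlgHom_apply] at this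
  rw [this, map_mul (ψ Q)]
  congr 2
  ring

end Groth.Agent.TraceResLib
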