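import Groth.Agent.TraceResLib.Line
import Groth.Agent.TraceResLib.Formula

/-!
# The residue theorem
-/

open Module WithZero

namespace Groth.Agent.TraceResLib

open FunFld Groth.Agent.FFLib LocRes

universe u

variable {k : Type u} {K : Type*} [Field k] [Field K] [Algebra k K]

/-- A residue does not change when `dv` is rewritten in terms of `d(1/v)`. -/
lemma locRes_inv {F : Type*} [Field F] [Algebra k F] (φ : K →ₐ[k] LaurentSeries F) {v : K} (hv : v ≠ 0) (u : K) :
    locRes φ (-(u * v ^ 2)) v⁻¹ = locRes φ u v := by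
  rw [locRes_smul φ (h := -v⁻¹ ^ 2) ((KaehlerDifferential.D k K).leibniz_inv v)]
  congr 1
  field_simp

/-- A constant has no residues. -/
lemma locRes_const {F : Type*} [Field F] [Algebra k F] (φ : K →ₐ[k] LaurentSeries F) (c : k) (u : K) :
    locRes φ u (algebraMap k K c) = 0 := by
  rw [locRes_smul φ (t := (algebraMap k K c)) (h := 0)
    (by rw [Derivation.map_algebraMap, zero_smul]), mul_zero, locRes, resExp, map_zero φ, zero_mul,
    map_zero, map_zero]

/-- The residue at a place where both entries are integral. -/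
lemma locRes_of_int {F : Type*} [Field F] [Algebra k F] [FiniteDimensional k F] (hK : FG1 k K) {P : Place k K}
    {φ : K →ₐ[k] LaurentSeries F} (hφ : IsExpansionAt P.1 φ) {u v : K} (hu : P.1 u ≤ 1) (hv : P.1 v ≤ 1) :
    locRes φ u v = 0 := by
  rw [← pres_eq_locRes hK hφ hv, pres_of_int P hv hu]

variable (hK : IsFunctionField k K) (F : Place k K → Type*) [∀ P, Field (F P)] [∀ P, Algebra k (F P)]
  [∀ P, FiniteDimensional k (F P)] (φ : ∀ P, K →ₐ[k] LaurentSeries (F P)) (hφ : ∀ P, IsExpansionAt P.1 (φ P))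

include hK hφ in
lemma finite_support_locRes (u v : K) : (Function.support fun P => locRes (φ P) u v).Finite :=
  ((finite_support_ord hK.1 u).union (finite_support_ord hK.1 v)).subset fun P hP => by
    by_contra hne
    simp only [Set.mem_union, Function.mem_support, not_or, not_not] at hne
    exact hP (locRes_of_int hK.1 (hφ P) ((v_le_one_iff P u).2 hne.1.ge) ((v_le_one_iff P v).2 hne.2.ge))

include hK hφ in
/-- **The residue theorem.** -/
theorem sum_locRes_eq_zero (u v : K) : ∑ᶠ P, locRes (φ P) u v = 0 := by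
  classical
  rcases em (IsAlgebraic k v) with halg | hv
  · obtain ⟨c, rfl⟩ := hK.2 v halg
    simp [locRes_const]
  have hv' : Transcendental k v := hv
  have := finite_adjoin hK.1 hv'
  set e := RatFunc.algEquivOfTranscendental v hv'
  set χ : RatFunc k →ₐ[k] K := (IntermediateField.adjoin k ({v} : Set K)).val.comp e.toAlgHom with hχ
  letI : Algebra (RatFunc k) K := χ.toRingHom.toAlgebra
  haveI : IsScalarTower k (RatFunc k) K := IsScalarTower.of_algebraMap_eq fun c => (χ.commutes c).symm
  have hX : algebraMap (RatFunc k) K RatFunc.X = v := RatFunc.algEquivOfTranscendental_X v hv'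
  haveI : FiniteDimensional (RatFunc k) K :=
    Module.Finite.of_equiv_equiv e.symm.toRingEquiv (RingEquiv.refl K)
      (RingHom.ext fun z => by
        show ((e (e.symm z) : IntermediateField.adjoin k ({v} : Set K)) : K) = (z : K)
        rw [AlgEquiv.apply_symm_apply])
  have hv0 : v ≠ 0 := fun h => hv' (h ▸ isAlgebraic_zero)
  have hR := fg1_ratFunc (k := k)
  obtain ⟨Pi, hPi⟩ := exists_infPlace (k := k)
  set τ := Algebra.trace (RatFunc k) K u with hτ
  obtain ⟨S, hS⟩ : ∃ S : Finset (Place k (RatFunc k)), ∀ p, p ∈ S ↔ 0 ≤ p.ord (RatFunc.X : RatFunc k) ∧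
      (p.ord τ ≠ 0 ∨ ∃ Q : Place k K, (Q.ord u ≠ 0 ∨ Q.ord v ≠ 0) ∧ underPlace hR Q = p) :=
    ⟨(((finite_support_ord hR τ).union (((finite_support_ord hK.1 u).union (finite_support_ord hK.1 v)).image
      (underPlace hR))).toFinset).filter fun p => 0 ≤ p.ord (RatFunc.X : RatFunc k), fun p => by
      simp [Set.Finite.mem_toFinset, and_comm]⟩
  have hPiS : Pi ∉ S := fun h => by have := ((hS Pi).1 h).1; omega
  have hline := line_sum hPi τ S (fun p hp => ((hS p).1 hp).1) fun p hp hpole =>
    (hS p).2 ⟨hp, Or.inl fun h0 => hpole ((v_le_one_iff p τ).2 h0.ge)⟩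
  have hdisj : (↑(insert Pi S) : Set (Place k (RatFunc k))).PairwiseDisjoint fun p => overs (K' := K) hR p :=
    fun p _ q _ hpq => Finset.disjoint_left.2 fun Q hQp hQq => hpq (by
      rw [← (isOver_iff hR Q p).1 ((mem_overs hR).1 hQp), (isOver_iff hR Q q).1 ((mem_overs hR).1 hQq)])
  rw [finsum_eq_sum_of_support_subset (s := (insert Pi S).biUnion fun p => overs (K' := K) hR p) _ fun Q hQ => ?_,
    Finset.sum_biUnion hdisj, Finset.sum_insert hPiS, ← hline, add_comm]
  · congr 1
    · refine Finset.sum_congr rfl fun p hp => ?_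
      have hpX := (v_le_one_iff p _).2 ((hS p).1 hp).1
      rw [hτ, ← sum_pres_overs hR p hpX]
      refine Finset.sum_congr rfl fun Q hQ => ?_
      obtain ⟨e', he⟩ := (mem_overs hR).1 hQ
      rw [hX, pres_eq_locRes hK.1 (hφ Q) ((hX ▸ isOverWith_le_one_iff he RatFunc.X).2 hpX)]
    · have hw : Pi.1 (RatFunc.X : RatFunc k)⁻¹ ≤ 1 := by
        rw [v_inv_X hPi, ← exp_zero, exp_le_exp]; norm_num
      rw [infTerm, show -(τ * RatFunc.X ^ 2) = Algebra.trace (RatFunc k) K (-(u * v ^ 2)) by
        rw [map_neg, ← hX, ← map_pow, mul_comm u, ← Algebra.smul_def, map_smul, smul_eq_mul, mul_comm, hτ],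
        ← sum_pres_overs hR Pi hw]
      refine Finset.sum_congr rfl fun Q hQ => ?_
      obtain ⟨e', he⟩ := (mem_overs hR).1 hQ
      have hQw : Q.1 v⁻¹ ≤ 1 := by
        have := (isOverWith_le_one_iff he (RatFunc.X : RatFunc k)⁻¹).2 hw
        rwa [map_inv₀ (algebraMap (RatFunc k) K), hX] at this
      rw [map_inv₀ (algebraMap (RatFunc k) K), hX, pres_eq_locRes hK.1 (hφ Q) hQw, locRes_inv (φ Q) hv0]
  · simp only [Finset.coe_biUnion, Set.mem_iUnion, Finset.mem_coe]
    refine ⟨underPlace hR Q, ?_, (mem_overs hR).2 ((isOver_iff hR Q _).2 rfl)⟩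
    have hord : Q.ord u ≠ 0 ∨ Q.ord v ≠ 0 := by
      by_contra hne
      simp only [not_or, not_not] at hne
      exact hQ (locRes_of_int hK.1 (hφ Q) ((v_le_one_iff Q u).2 hne.1.ge) ((v_le_one_iff Q v).2 hne.2.ge))
    rcases lt_or_ge ((underPlace hR Q).ord (RatFunc.X : RatFunc k)) 0 with h | h
    · rw [place_eq_inf hPi h]; exact Finset.mem_insert_self _ _
    · exact Finset.mem_insert_of_mem ((hS _).2 ⟨h, Or.inr ⟨Q, hord, rfl⟩⟩)

end Groth.Agent.TraceResLib
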