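import Groth.Agent.TraceResLib.Global
import Groth.Agent.FFLib.RR

/-!
# Weil differentials given by residues
-/

open Module WithZero

namespace Groth.Agent.TraceResLib

open FunFld Groth.Agent.FFLib LocRes

universe u

variable {k : Type u} {K : Type*} [Field k] [Field K] [Algebra k K]

section Local

variable {F : Type*} [Field F] [Algebra k F]

lemma coeff_neg_one_of_le {f : LaurentSeries F} (hf : Valued.v f ≤ 1) : f.coeff (-1) = 0 :=
  LaurentSeries.coeff_zero_of_lt_valuation F (D := 0) (by simpa using hf) (by norm_num)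

lemma locRes_of_vDiff_le (φ : K →ₐ[k] LaurentSeries F) {u v : K} (h : vDiff φ u v ≤ 1) : locRes φ u v = 0 := by
  rw [locRes, resExp, LocRes.res_apply, coeff_neg_one_of_le h, map_zero]

lemma locRes_add (φ : K →ₐ[k] LaurentSeries F) (u u' v : K) :
    locRes φ (u + u') v = locRes φ u v + locRes φ u' v := by
  rw [locRes, locRes, locRes, resExp, resExp, resExp, map_add φ, add_mul, map_add, map_add]

lemma locRes_smul_left (φ : K →ₐ[k] LaurentSeries F) (c : k) (u v : K) :
    locRes φ (c • u) v = c * locRes φ u v := by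
  rw [locRes, locRes, resExp, resExp, Algebra.smul_def, map_mul φ, LocRes.map_algebraMap, mul_assoc,
    HahnSeries.C_mul_eq_smul, map_smul, smul_eq_mul, ← Algebra.smul_def, map_smul, smul_eq_mul]

lemma vDiff_mul {P : Place k K} {φ : K →ₐ[k] LaurentSeries F} (hφ : IsExpansionAt P.1 φ) (u v : K) :
    vDiff φ u v = P.1 u * vDiff φ 1 v := by
  rw [vDiff, vDiff, map_one φ, one_mul, map_mul, hφ.1]

variable (hK : IsFunctionField k K) (hg : IsGeometric k K) {P : Place k K} {φ : K →ₐ[k] LaurentSeries F}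
  (hφ : IsExpansionAt P.1 φ)

include hK hg hφ in
lemma vDiff_ne_zero {v : K} (hv : KaehlerDifferential.D k K v ≠ 0) : vDiff φ 1 v ≠ 0 := by
  obtain ⟨t, -, -, ht⟩ := exists_uniformizer P
  obtain ⟨h, hd⟩ := exists_smul_uniformizer hK hg hφ ht v
  have hh : h ≠ 0 := fun e => hv (by rw [hd, e, zero_smul])
  rw [DiffExp.vDiff_one, DiffExp.deriv_eq φ hd, map_mul, hφ.1, ← DiffExp.vDiff_one φ t,
    DiffExp.vDiff_uniformizer hφ ht, mul_one]
  exact v_ne_zero P hh

omit hK hg in
include hφ in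
/-- The residue pairing at a place with separable coefficient field is perfect. -/
lemma exists_locRes_ne_zero' [FiniteDimensional k F] [Algebra.IsSeparable k F] {v : K} (hv : vDiff φ 1 v ≠ 0) {n : ℤ}
    (hn : n = ordDiff φ 1 v) : ∃ z : K, P.1 z ≤ exp (n + 1) ∧ locRes φ z v ≠ 0 := by
  obtain ⟨β, hβ⟩ : ∃ β : F, Algebra.trace k F β ≠ 0 := by
    by_contra hall
    simp only [not_exists, not_not] at hall
    exact Algebra.trace_ne_zero k F (LinearMap.ext hall)
  obtain ⟨t, ht0, -, ht⟩ := exists_uniformizer P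
  have hω : Valued.v (D F (φ v)) = exp (-n) := by
    rw [hn, ordDiff, neg_neg, exp_log hv, DiffExp.vDiff_one]
  set w := φ (t ^ (-(n + 1))) * D F (φ v) with hw
  have hwv : Valued.v w = exp (1 : ℤ) := by
    rw [hw, map_mul, hφ.1, map_zpow₀, ht, ← exp_zsmul, smul_eq_mul, hω, ← exp_add]
    congr 1; ring
  have hγ : w.coeff (-1) ≠ 0 := fun h0 => by
    have h' : Valued.v w ≤ exp (-(0 : ℤ)) := by
      rw [LaurentSeries.valuation_le_iff_coeff_lt_eq_zero]
      intro i hi
      rcases lt_or_eq_of_le (show i ≤ -1 by omega) with h | h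
      · exact LaurentSeries.coeff_zero_of_lt_valuation F (D := -1) (by rw [hwv, neg_neg]) h
      · rw [h, h0]
    rw [hwv, exp_le_exp] at h'
    omega
  obtain ⟨a, ha, hac⟩ := hφ.2.1 (β / w.coeff (-1))
  refine ⟨a * t ^ (-(n + 1)), ?_, ?_⟩
  · rw [map_mul, map_zpow₀, ht, ← exp_zsmul, smul_eq_mul, show -(n + 1) * (-1) = n + 1 by ring]
    exact mul_le_of_le_one_left' ha
  · rw [locRes, resExp, map_mul φ, mul_assoc, ← hw, LocRes.res_apply,
      show φ a * w = HahnSeries.C ((φ a).coeff 0) * w + (φ a - HahnSeries.C ((φ a).coeff 0)) * w by ring,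
      HahnSeries.coeff_add, HahnSeries.C_mul_eq_smul, HahnSeries.coeff_smul, hac, smul_eq_mul,
      div_mul_cancel₀ _ hγ, coeff_neg_one_of_le, add_zero]
    · exact hβ
    rw [map_mul, hwv]
    refine (mul_le_mul' ?_ le_rfl).trans_eq (show exp (-1 : ℤ) * exp (1 : ℤ) = 1 by rw [← exp_add]; simp)
    rw [← hac]
    exact le_exp_neg_one_of_lt_one (DiffExp.constTerm_lt hφ ha)

include hK hg hφ in
/-- The residue pairing at a place is perfect. -/
lemma exists_locRes_ne_zero [FiniteDimensional k F] {v : K} (hv : KaehlerDifferential.D k K v ≠ 0) {n : ℤ}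
    (hn : n = ordDiff φ 1 v) : ∃ z : K, P.1 z ≤ exp (n + 1) ∧ locRes φ z v ≠ 0 :=
  have : Algebra.IsSeparable k F :=
    (DiffExp.isSeparable_residue hK.1 hφ fun {x} hx a => DiffExp.exists_smul hK hg hx a).2
  exists_locRes_ne_zero' hφ (vDiff_ne_zero hK hg hφ hv) hn

end Local

variable (hK : IsFunctionField k K) (hg : IsGeometric k K) (F : Place k K → Type*) [∀ P, Field (F P)]
  [∀ P, Algebra k (F P)] [∀ P, FiniteDimensional k (F P)] (φ : ∀ P, K →ₐ[k] LaurentSeries (F P))
  (hφ : ∀ P, IsExpansionAt P.1 (φ P))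

include hK hφ in
lemma finite_support_term (a : adele k K) (v : K) :
    (Function.support fun P => locRes (φ P) ((a : Place k K → K) P) v).Finite := by
  have ha : {P : Place k K | ¬ P.1 ((a : Place k K → K) P) ≤ 1}.Finite := Filter.eventually_cofinite.1 a.2
  refine (ha.union (finite_support_ord hK.1 v)).subset fun P hP => ?_
  by_contra hne
  simp only [Set.mem_union, Set.mem_ofPred_eq, Function.mem_support, not_or, not_not] at hne
  exact hP (locRes_of_int hK.1 (hφ P) hne.1 ((v_le_one_iff P v).2 hne.2.ge))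

/-- The form `a ↦ ∑_P Res_P (a_P dv)`. -/
noncomputable def resForm (v : K) : Module.Dual k (adele k K) where
  toFun a := ∑ᶠ P, locRes (φ P) ((a : Place k K → K) P) v
  map_add' a b := by
    rw [← finsum_add_distrib (finite_support_term hK F φ hφ a v) (finite_support_term hK F φ hφ b v)]
    exact finsum_congr fun P => locRes_add (φ P) _ _ v
  map_smul' c a := by
    rw [RingHom.id_apply, smul_finsum]
    exact finsum_congr fun P => by
      rw [smul_eq_mul]
      exact locRes_smul_left (φ P) c _ v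

lemma mulWL_resForm (v u : K) (a : adele k K) :
    mulWL hK (resForm hK F φ hφ v) u a = ∑ᶠ P, locRes (φ P) ((a : Place k K → K) P * u) v :=
  finsum_congr fun P => by
    show locRes (φ P) (u • (a : Place k K → K) P) v = _
    rw [smul_eq_mul, mul_comm]

include hK hφ in
lemma finite_support_mul (a : adele k K) (u v : K) :
    (Function.support fun P => locRes (φ P) ((a : Place k K → K) P * u) v).Finite := by
  have h := finite_support_term hK F φ hφ ⟨_, smul_mem_adele hK u _ a.2⟩ v
  refine h.subset fun P hP => ?_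
  rw [Function.mem_support] at hP ⊢
  show locRes (φ P) (u • (a : Place k K → K) P) v ≠ 0
  rwa [smul_eq_mul, mul_comm]

lemma resForm_apply (v : K) (a : adele k K) :
    resForm hK F φ hφ v a = ∑ᶠ P, locRes (φ P) ((a : Place k K → K) P) v := rfl

/-- A repartition killed by all the residues. -/
lemma resForm_eq_zero {v : K} {a : adele k K}
    (h : ∀ P, locRes (φ P) ((a : Place k K → K) P) v = 0) : resForm hK F φ hφ v a = 0 := by
  rw [resForm_apply]
  exact finsum_eq_zero_of_forall_eq_zero h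

lemma resForm_mem_WD {v : K} {E : Divisor k K}
    (hE : ∀ P z, P.1 z ≤ exp (E P) → locRes (φ P) z v = 0) : resForm hK F φ hφ v ∈ WD E := by
  rw [mem_WD]
  intro a ha
  obtain ⟨b, hb, _, ⟨y, rfl⟩, e⟩ := Submodule.mem_sup.1 ha
  have hb' : b ∈ adele k K := AD_le_adele E hb
  have hy : diag k K y ∈ adele k K := range_diag_le_adele hK ⟨y, rfl⟩
  rw [show a = ⟨b, hb'⟩ + ⟨diag k K y, hy⟩ from Subtype.ext e.symm, map_add,
    resForm_eq_zero hK F φ hφ fun P => hE P _ (hb P), zero_add, resForm_apply]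
  exact sum_locRes_eq_zero hK F φ hφ y v

lemma isWeil_resForm (v : K) : IsWeil (resForm hK F φ hφ v) := by
  classical
  refine ⟨Finsupp.onFinset ((finite_support_ord hK.1 v).toFinset) (fun P =>
    if 0 ≤ P.ord v then 0 else log (vDiff (φ P) 1 v) * (-1) ⊓ 0) (fun P hP => ?_), resForm_mem_WD hK F φ hφ ?_⟩
  · rw [Set.Finite.mem_toFinset, Function.mem_support]
    intro h
    rw [if_pos h.ge] at hP
    exact hP rfl
  intro P z hz
  rw [Finsupp.onFinset_apply] at hz
  split_ifs at hz with h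
  · rw [exp_zero] at hz
    exact locRes_of_int hK.1 (hφ P) hz ((v_le_one_iff P v).2 h)
  · refine locRes_of_vDiff_le _ ?_
    rw [vDiff_mul (hφ P)]
    rcases eq_or_ne (vDiff (φ P) 1 v) 0 with h0 | h0
    · rw [h0, mul_zero]; exact zero_le
    refine (mul_le_mul' hz le_rfl).trans ?_
    rw [← exp_log h0, ← exp_add, ← exp_zero, exp_le_exp, log_exp]
    omega

include hK hg

/-- The form is not zero, and detects the order of `dv` at every place. -/
lemma le_ordDiff {v : K} (hv : KaehlerDifferential.D k K v ≠ 0) {E : Divisor k K}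
    (hE : resForm hK F φ hφ v ∈ WD E) (P : Place k K) : E P ≤ ordDiff (φ P) 1 v := by
  classical
  by_contra hlt
  obtain ⟨z, hz, hz0⟩ := exists_locRes_ne_zero hK hg (hφ P) hv rfl
  have hAD : Pi.single P z ∈ AD E := fun Q => by
    rcases eq_or_ne Q P with rfl | hne
    · rw [Pi.single_eq_same]
      exact hz.trans (exp_le_exp.2 (by omega))
    · rw [Pi.single_eq_of_ne hne, map_zero]; exact zero_le
  obtain ⟨a, ha⟩ : ∃ a : adele k K, (a : Place k K → K) = Pi.single P z := ⟨⟨_, AD_le_adele E hAD⟩, rfl⟩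
  have h : resForm hK F φ hφ v a = 0 := mem_WD.1 hE a (ha ▸ Submodule.mem_sup_left hAD)
  rw [resForm_apply, ha] at h
  refine hz0 ?_
  rw [finsum_eq_single _ P fun Q hQ => ?_] at h
  · rwa [Pi.single_eq_same] at h
  · rw [Pi.single_eq_of_ne hQ, locRes, resExp, map_zero (φ Q), zero_mul, map_zero, map_zero]

lemma resForm_ne_zero {v : K} (hv : KaehlerDifferential.D k K v ≠ 0) : resForm hK F φ hφ v ≠ 0 := by
  classical
  intro h
  obtain ⟨P⟩ := exists_place hK
  have := le_ordDiff hK hg F φ hφ hv (E := Finsupp.single P (ordDiff (φ P) 1 v + 1))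
    (by rw [h]; exact zero_mem _) P
  rw [Finsupp.single_eq_same] at this
  omega

/-- The divisor of `dv`. -/
theorem exists_divisor {v : K} (hv : KaehlerDifferential.D k K v ≠ 0) :
    ∃ C : Divisor k K, (∀ P, C P = ordDiff (φ P) 1 v) ∧ IsDivOf (resForm hK F φ hφ v) C := by
  classical
  obtain ⟨C, hC⟩ := exists_isDivOf hK (isWeil_resForm hK F φ hφ v) (resForm_ne_zero hK hg F φ hφ hv)
  have hCW := (hC C).2 le_rfl
  refine ⟨C, fun P => le_antisymm (le_ordDiff hK hg F φ hφ hv hCW P) ?_, hC⟩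
  have hE := (hC (C + Finsupp.single P (ordDiff (φ P) 1 v - C P))).1 ?_ P
  · rw [Finsupp.add_apply, Finsupp.single_eq_same] at hE
    omega
  rw [mem_WD]
  intro a ha
  obtain ⟨b, hb, c, hc, e⟩ := Submodule.mem_sup.1 ha
  set E := C + Finsupp.single P (ordDiff (φ P) 1 v - C P) with hEdef
  have hb1 : Pi.single P (b P) ∈ AD E := fun Q => by
    rcases eq_or_ne Q P with rfl | hne
    · rw [Pi.single_eq_same]; exact hb Q
    · rw [Pi.single_eq_of_ne hne, map_zero]; exact zero_le
  have hb2 : b - Pi.single P (b P) ∈ AD C := fun Q => by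
    rcases eq_or_ne Q P with rfl | hne
    · rw [Pi.sub_apply, Pi.single_eq_same, sub_self, map_zero]; exact zero_le
    · rw [Pi.sub_apply, Pi.single_eq_of_ne hne, sub_zero]
      have := hb Q
      rwa [hEdef, Finsupp.add_apply, Finsupp.single_eq_of_ne hne, add_zero] at this
  have hc2 : b - Pi.single P (b P) + c ∈ AD C ⊔ LinearMap.range (diag k K) := Submodule.add_mem_sup hb2 hc
  have h2 : b - Pi.single P (b P) + c ∈ adele k K := sup_le_adele hK C hc2
  obtain ⟨a₁, ha₁⟩ : ∃ a₁ : adele k K, (a₁ : Place k K → K) = Pi.single P (b P) := ⟨⟨_, AD_le_adele E hb1⟩, rfl⟩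
  obtain ⟨a₂, ha₂⟩ : ∃ a₂ : adele k K, (a₂ : Place k K → K) = b - Pi.single P (b P) + c := ⟨⟨_, h2⟩, rfl⟩
  have hsum : a = a₁ + a₂ := Subtype.ext (by rw [Submodule.coe_add, ha₁, ha₂, ← e]; abel)
  rw [hsum, map_add, mem_WD.1 hCW a₂ (ha₂ ▸ hc2), add_zero]
  refine resForm_eq_zero hK F φ hφ fun Q => ?_
  rw [ha₁]
  rcases eq_or_ne Q P with rfl | hne
  · rw [Pi.single_eq_same]
    refine locRes_of_vDiff_le _ ?_
    rw [vDiff_mul (hφ Q)]
    have := hb Q
    rw [hEdef, Finsupp.add_apply, Finsupp.single_eq_same, add_sub_cancel] at this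
    refine (mul_le_mul' this le_rfl).trans_eq ?_
    rw [← exp_log (vDiff_ne_zero hK hg (hφ Q) hv), ordDiff, ← exp_add, neg_add_cancel, exp_zero]
  · rw [Pi.single_eq_of_ne hne, locRes, resExp, map_zero (φ Q), zero_mul, map_zero, map_zero]

include hφ in
/-- Orders of multiples of `dv`. -/
lemma ordDiff_mul {v : K} (hv : KaehlerDifferential.D k K v ≠ 0) {u : K} (hu : u ≠ 0) (P : Place k K) :
    ordDiff (φ P) u v = P.ord u + ordDiff (φ P) 1 v := by
  rw [ordDiff, ordDiff, vDiff_mul (hφ P), log_mul (v_ne_zero P hu) (vDiff_ne_zero hK hg (hφ P) hv), Place.ord]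
  ring

include hφ in
lemma vDiff_le_iff {v : K} (hv : KaehlerDifferential.D k K v ≠ 0) {C : Divisor k K}
    (hC : ∀ P, C P = ordDiff (φ P) 1 v) (y : K) (D : Divisor k K) :
    (∀ P, vDiff (φ P) y v ≤ exp (-(D P))) ↔ y ∈ L (C - D) := by
  refine forall_congr' fun P => ?_
  rw [vDiff_mul (hφ P), ← exp_log (vDiff_ne_zero hK hg (hφ P) hv), ← le_div_iff₀ exp_pos, ← exp_sub,
    Finsupp.sub_apply, hC P, ordDiff]
  rw [show -D P - log (vDiff (φ P) 1 v) = -log (vDiff (φ P) 1 v) - D P by ring]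

omit hg in
theorem ell_sub_eq_finrank_WD {ω : Module.Dual k (adele k K)} {C : Divisor k K} (h0 : ω ≠ 0) (hC : IsDivOf ω C)
    (D : Divisor k K) : ell (C - D) = finrank k (WD D) := by
  have hmap : (L (C - D)).map (mulWL hK ω) = WD D := by
    refine le_antisymm ?_ fun ω' hω' => ?_
    · rintro _ ⟨x, hx, rfl⟩
      have := mulW_mem_WD hx (smul_mem_adele hK x) ((hC C).2 le_rfl)
      rwa [sub_sub_cancel] at this
    · obtain ⟨x, ⟨hx, hxe⟩, -⟩ := exists_unique_mulWL hK hC h0 hω'
      exact ⟨x, hx, hxe⟩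
  rw [← hmap, ← (Submodule.equivMapOfInjective _ (mulWL_injective hK h0) (L (C - D))).finrank_eq]
  rfl

end Groth.Agent.TraceResLib
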