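import Groth.Agent.TraceResLib.Complete

/-!
# Extensions of a complete field with a coefficient field
-/

open Module WithZero

namespace Groth.Agent.TraceResLib

open LocRes Groth.Agent.FFLib

universe u

variable {K L : Type u} {F E : Type*} [Field K] [Field L] [Field F] [Field E] [Algebra K F] [Algebra F E]
  [Algebra K E] [IsScalarTower K F E] [Algebra K L] [Algebra L E] [IsScalarTower K L E]
  {v : Valuation F (WithZero (Multiplicative ℤ))} {w : Valuation E (WithZero (Multiplicative ℤ))}
  {φ : F →ₐ[K] LaurentSeries K} {ψ : E →ₐ[L] LaurentSeries L}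

lemma v_C_eq {F₀ : Type*} [Field F₀] {a : F₀} (ha : a ≠ 0) : Valued.v (HahnSeries.C a : LaurentSeries F₀) = 1 := by
  refine le_antisymm (DiffExp.v_C_le a) ?_
  have h1 := DiffExp.v_C_le a⁻¹
  rwa [map_inv₀, map_inv₀, inv_le_one₀ (zero_lt_iff.2 (Valued.v.ne_zero_iff.2
    ((map_ne_zero_iff _ HahnSeries.C_injective).2 ha)))] at h1

lemma sub_C_lt {F₀ : Type*} [Field F₀] {x : LaurentSeries F₀} (hx : Valued.v x ≤ 1) :
    Valued.v (x - HahnSeries.C (x.coeff 0)) < 1 := by
  refine lt_of_le_of_lt (b := exp (-(1 : ℤ))) ?_ (by rw [← exp_zero, exp_lt_exp]; norm_num)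
  rw [LaurentSeries.valuation_le_iff_coeff_lt_eq_zero]
  intro i hi
  rw [HahnSeries.coeff_sub]
  rcases lt_or_eq_of_le (show i ≤ 0 by omega) with h' | h'
  · rw [LaurentSeries.coeff_zero_of_lt_valuation F₀ (D := 0) (by simpa using hx) h', HahnSeries.C_apply,
      HahnSeries.coeff_single_of_ne h'.ne, sub_zero]
  · rw [h', HahnSeries.C_apply, HahnSeries.coeff_single_same, sub_self]

/-- The ramification index. -/
lemma exists_idx [v.HasExtension w] {t : F} (ht : v t = exp (-1 : ℤ)) :
    ∃ e : ℕ, 0 < e ∧ ∀ x : F, w (algebraMap F E x) = v x ^ e := by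
  have ht0 : t ≠ 0 := fun h => by rw [h, map_zero] at ht; exact exp_ne_zero ht.symm
  have hT0 : w (algebraMap F E t) ≠ 0 := w.ne_zero_iff.2 ((map_ne_zero _).2 ht0)
  have hlt : w (algebraMap F E t) < 1 :=
    (Valuation.HasExtension.val_map_lt_one_iff v w t).2 (by rw [ht, ← exp_zero, exp_lt_exp]; norm_num)
  set e : ℕ := (-log (w (algebraMap F E t))).toNat with he
  have hneg : log (w (algebraMap F E t)) < 0 := by
    rw [← exp_log hT0, ← exp_zero, exp_lt_exp] at hlt
    exact hlt
  have hT : w (algebraMap F E t) = exp (-(e : ℤ)) := by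
    rw [he, ← exp_log hT0, log_exp]
    congr 1
    omega
  refine ⟨e, by omega, fun x => ?_⟩
  rcases eq_or_ne x 0 with rfl | hx0
  · rw [map_zero, map_zero, map_zero, zero_pow (by omega)]
  set n := log (v x)
  have hx : v x = exp n := (exp_log (v.ne_zero_iff.2 hx0)).symm
  have hu : w (algebraMap F E (x * t ^ n)) = 1 := by
    refine (Valuation.HasExtension.val_map_eq_one_iff v w _).2 ?_
    rw [map_mul, map_zpow₀, ht, hx, ← exp_zsmul, ← exp_add, ← exp_zero]
    congr 1
    simp
  rw [map_mul, map_mul, map_zpow₀ (algebraMap F E), map_zpow₀, hT, ← exp_zsmul] at hu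
  rw [hx, ← exp_nsmul, ← mul_right_cancel_iff_of_pos (exp_pos (a := n • (-(e : ℤ)))), hu, ← exp_add, ← exp_zero]
  congr 1
  simp only [nsmul_eq_mul, smul_eq_mul]
  ring

variable (hφ : IsExpansionAt v φ) (hψ : IsExpansionAt w ψ) {ι : Type*} [Fintype ι] (b : Basis ι K L)
  {e : ℕ} (he : ∀ x : F, w (algebraMap F E x) = v x ^ e) {s : E} (hs : w s = exp (-1 : ℤ))

include hφ hψ he in
/-- The value of a combination of constants. -/
lemma exists_w_const_comb (he0 : 0 < e) (c : ι → F) :
    (∀ i, v (c i) ^ e ≤ w (∑ i, algebraMap F E (c i) * algebraMap L E (b i))) ∧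
      ((∃ i, c i ≠ 0) → ∃ n : ℤ, w (∑ i, algebraMap F E (c i) * algebraMap L E (b i)) = exp ((e : ℤ) * n)) := by
  classical
  by_cases hall : ∀ i, c i = 0
  · exact ⟨fun i => by rw [hall i, map_zero, zero_pow (by omega)]; exact zero_le, fun ⟨i, hi⟩ => absurd (hall i) hi⟩
  obtain ⟨i₁, hi₁⟩ := not_forall.1 hall
  obtain ⟨i₀, -, hmax⟩ := Finset.exists_max_image Finset.univ (fun i => v (c i)) ⟨i₁, Finset.mem_univ _⟩
  have hc0 : c i₀ ≠ 0 := fun h => by
    have := hmax i₁ (Finset.mem_univ _)
    rw [h, map_zero, le_zero_iff, v.zero_iff] at this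
    exact hi₁ this
  have hd : ∀ i, v (c i / c i₀) ≤ 1 := fun i => by
    rw [map_div₀]; exact div_le_one_of_le₀ (hmax i (Finset.mem_univ _)) zero_le
  have hC : ∀ x : F, v x ≤ 1 →
      Valued.v (ψ (algebraMap F E x) - HahnSeries.C (algebraMap K L ((φ x).coeff 0))) < 1 := fun x hx => by
    set a := (φ x).coeff 0
    have h1 : v (x - algebraMap K F a) < 1 := by
      rw [← hφ.1, map_sub, φ.commutes, LocRes.algebraMap_eq_C]
      exact sub_C_lt ((hφ.1 x).trans_le hx)
    rw [← LocRes.algebraMap_eq_C, ← ψ.commutes, ← IsScalarTower.algebraMap_apply K L E,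
      IsScalarTower.algebraMap_apply K F E, ← map_sub, hψ.1, ← map_sub, he]
    exact pow_lt_one₀ zero_le h1 (by omega)
  have hbody : w (∑ i, algebraMap F E (c i / c i₀) * algebraMap L E (b i)) = 1 := by
    set a : ι → K := fun i => (φ (c i / c i₀)).coeff 0
    rw [← hψ.1, map_sum]
    have hne : ∑ i, a i • b i ≠ 0 := fun h => by
      have := Fintype.linearIndependent_iff.1 b.linearIndependent a h i₀
      rw [show a i₀ = (φ (c i₀ / c i₀)).coeff 0 from rfl, div_self hc0, map_one φ, HahnSeries.coeff_one, if_pos rfl]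
        at this
      exact one_ne_zero this
    have hsum : ∑ i, ψ (algebraMap F E (c i / c i₀) * algebraMap L E (b i)) = HahnSeries.C (∑ i, a i • b i) +
        ∑ i, (ψ (algebraMap F E (c i / c i₀)) - HahnSeries.C (algebraMap K L (a i))) * HahnSeries.C (b i) := by
      rw [map_sum, ← Finset.sum_add_distrib]
      refine Finset.sum_congr rfl fun i _ => ?_
      rw [map_mul ψ, ψ.commutes, LocRes.algebraMap_eq_C, Algebra.smul_def, map_mul HahnSeries.C]
      ring
    rw [hsum, Valuation.map_add_eq_of_lt_left, v_C_eq hne]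
    rw [v_C_eq hne]
    refine Valuation.map_sum_lt _ one_ne_zero fun i _ => ?_
    rw [map_mul]
    exact lt_of_le_of_lt (mul_le_of_le_one_right' (DiffExp.v_C_le _)) (hC _ (hd i))
  have hval : w (∑ i, algebraMap F E (c i) * algebraMap L E (b i)) = v (c i₀) ^ e := by
    rw [show (∑ i, algebraMap F E (c i) * algebraMap L E (b i)) =
      algebraMap F E (c i₀) * ∑ i, algebraMap F E (c i / c i₀) * algebraMap L E (b i) by
      rw [Finset.mul_sum]
      exact Finset.sum_congr rfl fun i _ => by rw [← mul_assoc, ← map_mul, mul_div_cancel₀ _ hc0],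
      map_mul, hbody, mul_one, he]
  refine ⟨fun i => hval ▸ pow_le_pow_left' (hmax i (Finset.mem_univ _)) e, fun _ => ⟨log (v (c i₀)), ?_⟩⟩
  rw [hval, ← exp_log (v.ne_zero_iff.2 hc0), ← exp_nsmul, log_exp, nsmul_eq_mul]

include hφ hψ he hs in
/-- Values of coordinates. -/
lemma le_w_comb (he0 : 0 < e) (c : ι × Fin e → F) (p : ι × Fin e) :
    v (c p) ^ e * exp (-(p.2 : ℤ)) ≤ w (∑ q, algebraMap F E (c q) * (algebraMap L E (b q.1) * s ^ (q.2 : ℕ))) := by
  classical
  set g : Fin e → E := fun j => (∑ i, algebraMap F E (c (i, j)) * algebraMap L E (b i)) * s ^ (j : ℕ) with hg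
  have hsum : (∑ q, algebraMap F E (c q) * (algebraMap L E (b q.1) * s ^ (q.2 : ℕ))) = ∑ j, g j := by
    rw [Fintype.sum_prod_type, Finset.sum_comm]
    refine Finset.sum_congr rfl fun j _ => ?_
    show _ = (∑ i, algebraMap F E (c (i, j)) * algebraMap L E (b i)) * s ^ (j : ℕ)
    rw [Finset.sum_mul]
    exact Finset.sum_congr rfl fun i _ => by ring
  have hsj : ∀ j : Fin e, w (s ^ (j : ℕ)) = exp (-(j : ℤ)) := fun j => by
    rw [map_pow, hs, ← exp_nsmul, nsmul_eq_mul]
    congr 1; ring
  obtain ⟨i₁, j₁⟩ := p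
  have h1 : v (c (i₁, j₁)) ^ e * exp (-(j₁ : ℤ)) ≤ w (g j₁) := by
    rw [hg, map_mul, hsj]
    exact mul_le_mul' ((exists_w_const_comb hφ hψ b he he0 fun i => c (i, j₁)).1 i₁) le_rfl
  refine h1.trans ?_
  rw [hsum]
  obtain ⟨j₀, -, hmax⟩ := Finset.exists_max_image Finset.univ (fun j => w (g j)) ⟨j₁, Finset.mem_univ _⟩
  rcases eq_or_ne (w (g j₁)) 0 with h0 | h0
  · rw [h0]; exact zero_le
  have hpos : 0 < w (g j₀) := (zero_lt_iff.2 h0).trans_le (hmax j₁ (Finset.mem_univ _))
  rw [v_sum_eq w (Finset.mem_univ j₀) fun j _ hne => lt_of_le_of_ne (hmax j (Finset.mem_univ _)) fun heq => hne ?_]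
  · exact hmax j₁ (Finset.mem_univ _)
  have key : ∀ j, 0 < w (g j) → ∃ n : ℤ, w (g j) = exp ((e : ℤ) * n - j) := fun j hj => by
    have hex : ∃ i, c (i, j) ≠ 0 := by
      by_contra hall
      simp only [not_exists, not_not] at hall
      rw [hg] at hj
      simp [hall] at hj
    obtain ⟨n, hn⟩ := (exists_w_const_comb hφ hψ b he he0 fun i => c (i, j)).2 hex
    refine ⟨n, ?_⟩
    rw [hg, map_mul, hn, hsj, ← exp_add, ← sub_eq_add_neg]
  obtain ⟨n, hn⟩ := key j (heq ▸ hpos)
  obtain ⟨n₀, hn₀⟩ := key j₀ hpos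
  rw [hn, hn₀, exp_inj] at heq
  refine Fin.ext ?_
  have hj := j.isLt
  have hj₀ := j₀.isLt
  have hd : ((j₀ : ℕ) : ℤ) - ((j : ℕ) : ℤ) = e * (n₀ - n) := by linarith
  have hzero : n₀ - n = 0 := by
    by_contra h
    rcases lt_or_gt_of_ne h with h' | h'
    · nlinarith
    · nlinarith
  rw [hzero, mul_zero] at hd
  omega

include hψ he hs in
/-- One step of the expansion. -/
lemma exists_digits {t : F} (ht : v t = exp (-1 : ℤ)) (z : E) (hz : w z ≤ 1) :
    ∃ (a : ι × Fin e → K) (z' : E), w z' ≤ 1 ∧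
      z = ∑ q, algebraMap K E (a q) * (algebraMap L E (b q.1) * s ^ (q.2 : ℕ)) + algebraMap F E t * z' := by
  have hs0 : s ≠ 0 := fun h => by rw [h, map_zero] at hs; exact exp_ne_zero hs.symm
  have hT : w (algebraMap F E t) = exp (-(e : ℤ)) := by
    rw [he, ht, ← exp_nsmul, nsmul_eq_mul]; congr 1; ring
  have hT0 : algebraMap F E t ≠ 0 := fun h => by rw [h, map_zero] at hT; exact exp_ne_zero hT.symm
  have key : ∀ r : ℕ, ∃ l : ℕ → L, w (z - ∑ j ∈ Finset.range r, algebraMap L E (l j) * s ^ j) ≤ exp (-(r : ℤ)) := by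
    intro r
    induction r with
    | zero => exact ⟨0, by simpa using hz⟩
    | succ r ih =>
      obtain ⟨l, hl⟩ := ih
      set d := (z - ∑ j ∈ Finset.range r, algebraMap L E (l j) * s ^ j) with hd
      have hsr : w (s ^ r) = exp (-(r : ℤ)) := by
        rw [map_pow, hs, ← exp_nsmul, nsmul_eq_mul]; congr 1; ring
      have hu : w (d / s ^ r) ≤ 1 := by
        rw [map_div₀, hsr]; exact div_le_one_of_le₀ hl zero_le
      set c := (ψ (d / s ^ r)).coeff 0
      refine ⟨Function.update l r c, ?_⟩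
      rw [Finset.sum_range_succ, Finset.sum_congr rfl (fun j hj => by
        rw [Function.update_of_ne (Finset.mem_range.1 hj).ne] :
          ∀ j ∈ Finset.range r, algebraMap L E (Function.update l r c j) * s ^ j = algebraMap L E (l j) * s ^ j),
        Function.update_self, ← sub_sub, ← hd,
        show d - algebraMap L E c * s ^ r = (d / s ^ r - algebraMap L E c) * s ^ r by
          rw [sub_mul, div_mul_cancel₀ _ (pow_ne_zero _ hs0)], map_mul, hsr]
      refine (mul_le_mul' (b := exp (-1 : ℤ)) ?_ le_rfl).trans_eq (by rw [← exp_add]; congr 1; push_cast; ring)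
      refine le_exp_neg_one_of_lt_one ?_
      rw [← hψ.1, map_sub, ψ.commutes, LocRes.algebraMap_eq_C]
      exact sub_C_lt ((hψ.1 _).trans_le hu)
  obtain ⟨l, hl⟩ := key e
  refine ⟨fun q => b.repr (l q.2) q.1, (z - ∑ j ∈ Finset.range e, algebraMap L E (l j) * s ^ j) / algebraMap F E t,
    ?_, ?_⟩
  · rw [map_div₀, hT]; exact div_le_one_of_le₀ hl zero_le
  rw [mul_div_cancel₀ _ hT0, Fintype.sum_prod_type, Finset.sum_comm, Finset.sum_range]
  rw [show (∑ j : Fin e, ∑ i, algebraMap K E (b.repr (l j) i) * (algebraMap L E (b i) * s ^ (j : ℕ))) =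
      ∑ j : Fin e, algebraMap L E (l j) * s ^ (j : ℕ) from Finset.sum_congr rfl fun j _ => by
    conv_rhs => rw [← b.sum_repr (l j), map_sum, Finset.sum_mul]
    exact Finset.sum_congr rfl fun i _ => by
      rw [Algebra.smul_def, map_mul, ← IsScalarTower.algebraMap_apply, mul_assoc], add_sub_cancel]

include hφ hψ he hs in
/-- Over a complete field the candidates span. -/
lemma exists_coords (hsurj : Function.Surjective φ) (he0 : 0 < e) (z : E) :
    ∃ c : ι × Fin e → F, z = ∑ q, algebraMap F E (c q) * (algebraMap L E (b q.1) * s ^ (q.2 : ℕ)) := by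
  obtain ⟨t, htX⟩ := hsurj (HahnSeries.single (1 : ℤ) (1 : K))
  have ht : v t = exp (-1 : ℤ) := by
    rw [← hφ.1, htX, LaurentSeries.valuation_single_zpow]
  have ht0 : t ≠ 0 := fun h => by rw [h, map_zero] at ht; exact exp_ne_zero ht.symm
  have hT : w (algebraMap F E t) = exp (-(e : ℤ)) := by
    rw [he, ht, ← exp_nsmul, nsmul_eq_mul]; congr 1; ring
  have hBle : ∀ q : ι × Fin e, w (algebraMap L E (b q.1) * s ^ (q.2 : ℕ)) ≤ 1 := fun q => by
    rw [map_mul, map_pow, hs, ← hψ.1, ψ.commutes, LocRes.algebraMap_eq_C]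
    exact mul_le_one' (DiffExp.v_C_le _) (pow_le_one' (by rw [← exp_zero, exp_le_exp]; norm_num) _)
  have hint : ∀ z : E, w z ≤ 1 →
      ∃ c : ι × Fin e → F, z = ∑ q, algebraMap F E (c q) * (algebraMap L E (b q.1) * s ^ (q.2 : ℕ)) := by
    intro z hz
    choose a z' hz' hdec using fun (y : {y : E // w y ≤ 1}) => exists_digits hψ b he hs ht y.1 y.2
    let Z : ℕ → {y : E // w y ≤ 1} := fun n => Nat.rec ⟨z, hz⟩ (fun _ y => ⟨z' y, hz' y⟩) n
    have hpart : ∀ n, z = ∑ q, algebraMap F E (∑ m ∈ Finset.range n, algebraMap K F (a (Z m) q) * t ^ m) *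
        (algebraMap L E (b q.1) * s ^ (q.2 : ℕ)) + algebraMap F E t ^ n * (Z n).1 := by
      intro n
      induction n with
      | zero => simp [Z]
      | succ n ih =>
        rw [show (Z (n + 1)).1 = z' (Z n) from rfl]
        conv_lhs => rw [ih, hdec (Z n)]
        simp only [Finset.sum_range_succ, map_add, map_mul, map_pow, add_mul, Finset.sum_add_distrib]
        rw [mul_add, Finset.mul_sum, pow_succ, ← mul_assoc (algebraMap F E t ^ n), add_assoc]
        congr 2
        exact Finset.sum_congr rfl fun q _ => by rw [← IsScalarTower.algebraMap_apply K F E]; ring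
    choose c hc using fun q : ι × Fin e =>
      hsurj ((PowerSeries.mk fun m => a (Z m) q : PowerSeries K) : LaurentSeries K)
    have hclose : ∀ n q, v (c q - ∑ m ∈ Finset.range n, algebraMap K F (a (Z m) q) * t ^ m) ≤ exp (-(n : ℤ)) := by
      intro n q
      rw [← hφ.1, map_sub, hc, map_sum, LaurentSeries.valuation_le_iff_coeff_lt_eq_zero]
      intro i hi
      simp only [map_mul, map_pow, φ.commutes, htX, LocRes.algebraMap_eq_C, HahnSeries.C_apply,
        HahnSeries.single_pow, one_pow, HahnSeries.single_mul_single, zero_add, mul_one, nsmul_eq_mul]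
      rw [HahnSeries.coeff_sub, HahnSeries.coeff_sum, PowerSeries.coeff_coe]
      simp only [HahnSeries.coeff_single]
      split_ifs with hneg
      · rw [Finset.sum_eq_zero, sub_zero]
        intro m _
        rw [if_neg (by omega)]
      · rw [Finset.sum_eq_single i.natAbs, if_pos (by omega), PowerSeries.coeff_mk, sub_self]
        · intro m _ hm
          rw [if_neg (by omega)]
        · intro hm
          exact absurd (Finset.mem_range.2 (by omega)) hm
    refine ⟨c, ?_⟩
    rw [← sub_eq_zero]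
    by_contra hne
    set D := z - ∑ q, algebraMap F E (c q) * (algebraMap L E (b q.1) * s ^ (q.2 : ℕ)) with hD
    have hbound : ∀ n : ℕ, w D ≤ exp (-((e : ℤ) * n)) := fun n => by
      rw [hD]
      conv_lhs => rw [hpart n]
      rw [add_sub_right_comm, ← Finset.sum_sub_distrib]
      refine (w.map_add _ _).trans (max_le (w.map_sum_le fun q _ => ?_) ?_)
      · rw [← sub_mul, ← map_sub, map_mul, he, Valuation.map_sub_swap]
        refine (mul_le_mul' (pow_le_pow_left' (hclose n q) e) (hBle q)).trans_eq ?_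
        rw [mul_one, ← exp_nsmul, nsmul_eq_mul]; congr 1; ring
      · rw [map_mul, map_pow, hT, ← exp_nsmul, nsmul_eq_mul]
        refine (mul_le_of_le_one_right' (Z n).2).trans_eq ?_
        congr 1; ring
    have h := hbound ((-log (w D)).toNat + 1)
    rw [← exp_log (w.ne_zero_iff.2 hne), exp_le_exp, log_exp] at h
    push_cast at h
    have : (1 : ℤ) ≤ e := by exact_mod_cast he0
    nlinarith [Int.self_le_toNat (-log (w D))]
  rcases eq_or_ne z 0 with rfl | hz0
  · exact ⟨0, by simp⟩
  set m := (log (w z)).toNat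
  obtain ⟨c, hc⟩ := hint (algebraMap F E t ^ m * z) (by
    rw [map_mul, map_pow, hT, ← exp_log (w.ne_zero_iff.2 hz0), ← exp_nsmul, ← exp_add, ← exp_zero, exp_le_exp,
      nsmul_eq_mul]
    have : (1 : ℤ) ≤ e := by exact_mod_cast he0
    nlinarith [Int.self_le_toNat (log (w z)), Int.natCast_nonneg m])
  refine ⟨fun q => c q / t ^ m, ?_⟩
  have hT0 : algebraMap F E t ^ m ≠ 0 := pow_ne_zero _ ((map_ne_zero _).2 ht0)
  rw [← mul_right_inj' hT0, hc, Finset.mul_sum]
  exact Finset.sum_congr rfl fun q _ => by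
    rw [map_div₀, map_pow, ← mul_assoc (algebraMap F E t ^ m), mul_div_cancel₀ _ hT0]

include hφ hψ in
/-- The trace formula for a parameter of nonnegative order. -/
theorem locRes_trace_complete_of_int [FiniteDimensional K L] [v.HasExtension w]
    (hsurj : Function.Surjective φ) (x : F) (hx : v x ≤ 1) (y : E) :
    Algebra.trace K L (resExp ψ y (algebraMap F E x)) = resExp φ (Algebra.trace F E y) x := by
  classical
  obtain ⟨-, -, t, ht⟩ := id hφ
  obtain ⟨e, he0, he⟩ := exists_idx (w := w) (E := E) ht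
  obtain ⟨-, -, s, hs⟩ := id hψ
  set b := Module.finBasis K L
  set B : Fin (finrank K L) × Fin e → E := fun q => algebraMap L E (b q.1) * s ^ (q.2 : ℕ)
  have hli : LinearIndependent F B := by
    rw [Fintype.linearIndependent_iff]
    intro c hc p
    have h := le_w_comb hφ hψ b he hs he0 c p
    rw [show (∑ q, algebraMap F E (c q) * (algebraMap L E (b q.1) * s ^ (q.2 : ℕ))) = 0 by
      rw [← hc]; exact Finset.sum_congr rfl fun q _ => (Algebra.smul_def _ _).symm, map_zero, le_zero_iff,
      mul_eq_zero, or_iff_left exp_ne_zero, pow_eq_zero_iff (by omega), v.zero_iff] at h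
    exact h
  have hspan : ⊤ ≤ Submodule.span F (Set.range B) := fun z _ => by
    obtain ⟨c, hc⟩ := exists_coords hφ hψ b he hs hsurj he0 z
    rw [hc]
    exact Submodule.sum_mem _ fun q _ => by
      rw [← Algebra.smul_def]; exact Submodule.smul_mem _ _ (Submodule.subset_span ⟨q, rfl⟩)
  set β := Basis.mk hli hspan
  have hβ : ∀ z, z = ∑ q, algebraMap F E (β.repr z q) * (algebraMap L E (b q.1) * s ^ (q.2 : ℕ)) := fun z => by
    conv_lhs => rw [← β.sum_repr z]
    exact Finset.sum_congr rfl fun q _ => by rw [Algebra.smul_def, Basis.mk_apply]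
  let A : Subalgebra K F :=
    { carrier := {x | v x ≤ 1}
      mul_mem' := fun ha hb => by show v _ ≤ 1; rw [map_mul]; exact mul_le_one' ha hb
      add_mem' := fun ha hb => (v.map_add _ _).trans (max_le ha hb)
      algebraMap_mem' := fun c => by
        show v _ ≤ 1
        rw [← hφ.1, φ.commutes, LocRes.algebraMap_eq_C]
        exact DiffExp.v_C_le c }
  let A' : Subalgebra K E :=
    { carrier := {x | w x ≤ 1}
      mul_mem' := fun ha hb => by show w _ ≤ 1; rw [map_mul]; exact mul_le_one' ha hb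
      add_mem' := fun ha hb => (w.map_add _ _).trans (max_le ha hb)
      algebraMap_mem' := fun c => by
        show w _ ≤ 1
        rw [IsScalarTower.algebraMap_apply K L E, ← hψ.1, ψ.commutes, LocRes.algebraMap_eq_C]
        exact DiffExp.v_C_le _ }
  have hA : ∀ x, x ∈ A ↔ v x ≤ 1 := fun _ => Iff.rfl
  have hA' : ∀ z, z ∈ A' ↔ ∀ q, β.repr z q ∈ A := fun z => by
    refine ⟨fun hz q => ?_, fun hz => ?_⟩
    · have h := (le_w_comb hφ hψ b he hs he0 (fun q => β.repr z q) q).trans ((hβ z).symm ▸ (show w z ≤ 1 from hz))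
      show v (β.repr z q) ≤ 1
      by_contra hlt
      rw [not_le] at hlt
      have h0 : v (β.repr z q) ≠ 0 := fun h' => by rw [h'] at hlt; exact not_lt.2 zero_le hlt
      rw [← exp_log h0, ← exp_zero, exp_lt_exp] at hlt
      rw [← exp_log h0, ← exp_nsmul, ← exp_add, ← exp_zero, exp_le_exp, nsmul_eq_mul] at h
      have hq : ((q.2 : ℕ) : ℤ) < e := by exact_mod_cast q.2.isLt
      nlinarith
    · show w z ≤ 1
      rw [hβ z]
      refine w.map_sum_le fun q _ => ?_
      rw [map_mul, he, map_mul, map_pow, hs, ← hψ.1, ψ.commutes, LocRes.algebraMap_eq_C]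
      exact mul_le_one' (pow_le_one' (hz q) e)
        (mul_le_one' (DiffExp.v_C_le _) (pow_le_one' (by rw [← exp_zero, exp_le_exp]; norm_num) _))
  let ψK : E →ₐ[K] LaurentSeries L :=
    { ψ.toRingHom with
      commutes' := fun c => by
        show ψ (algebraMap K E c) = _
        rw [IsScalarTower.algebraMap_apply K L E, ψ.commutes, LocRes.algebraMap_eq_C, algebraMap_laurent] }
  have hψK : IsExpansionAt w ψK := hψ
  obtain ⟨-, hblock⟩ := res_block β hA' ((hA x).2 hx) (y := y) fun i j => adm_of_expansion hA hφ _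
  have hxw : w (algebraMap F E x) ≤ 1 := by rw [he]; exact pow_le_one' hx e
  rw [res_eq_locRes (A := A') (fun _ => Iff.rfl) hψK hxw, res_eq_locRes hA hφ hx, locRes, locRes,
    Algebra.trace_self_apply] at hblock
  exact hblock

include hφ hψ in
/-- **The trace formula over a complete field.** -/
theorem locRes_trace_complete [FiniteDimensional K L] [v.HasExtension w]
    (hsurj : Function.Surjective φ) (x : F) (y : E) :
    Algebra.trace K L (resExp ψ y (algebraMap F E x)) = resExp φ (Algebra.trace F E y) x := by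
  by_cases hx : v x ≤ 1
  · exact locRes_trace_complete_of_int hφ hψ hsurj x hx y
  have hx0 : x ≠ 0 := fun h => hx (by rw [h, map_zero]; exact zero_le)
  let ψK : E →ₐ[K] LaurentSeries L :=
    { ψ.toRingHom with
      commutes' := fun c => by
        show ψ (algebraMap K E c) = _
        rw [IsScalarTower.algebraMap_apply K L E, ψ.commutes, LocRes.algebraMap_eq_C, algebraMap_laurent] }
  have h1 : v x⁻¹ ≤ 1 := by rw [map_inv₀]; exact inv_le_one_of_one_le₀ (not_le.1 hx).le
  have h := locRes_trace_complete_of_int hφ hψ hsurj x⁻¹ h1 (-(y * algebraMap F E x ^ 2))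
  have hl : locRes ψK (-(y * algebraMap F E x ^ 2)) (algebraMap F E x)⁻¹ = locRes ψK y (algebraMap F E x) :=
    locRes_inv ψK ((map_ne_zero _).2 hx0) y
  have hr : locRes φ (-(Algebra.trace F E y * x ^ 2)) x⁻¹ = locRes φ (Algebra.trace F E y) x := locRes_inv φ hx0 _
  rw [show Algebra.trace F E (-(y * algebraMap F E x ^ 2)) = -(Algebra.trace F E y * x ^ 2) by
    rw [map_neg, ← map_pow, mul_comm y, ← Algebra.smul_def, map_smul, smul_eq_mul, mul_comm], map_inv₀] at h
  rw [locRes, locRes, Algebra.trace_self_apply, Algebra.trace_self_apply] at hr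
  exact (hl.symm.trans h).trans hr

end Groth.Agent.TraceResLib
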