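import Groth.Agent.TraceResLib.FinRank

/-!
# Residues as traces of commutators
-/

open Module LinearMap

namespace Groth.Agent.TraceResLib

variable {k : Type*} [Field k] {K : Type*} [CommRing K] [Algebra k K] (A : Subalgebra k K)

/-- `π` is a linear projection onto `A`. -/
def IsProjA (π : K →ₗ[k] K) : Prop := (∀ x, π x ∈ A) ∧ ∀ a ∈ A, π a = a

/-- `f` maps `A` into a subspace commensurable with `A`. -/
def Adm (f : K) : Prop :=
  FiniteDimensional k (((Subalgebra.toSubmodule A).map (LinearMap.mulLeft k f)).map (Subalgebra.toSubmodule A).mkQ)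

/-- The commutator `[π f, g]` on `A`, extended by a projection. -/
noncomputable def op (π σ : K →ₗ[k] K) (f g : K) : K →ₗ[k] K :=
  (π ∘ₗ LinearMap.mulLeft k (f * g) - LinearMap.mulLeft k g ∘ₗ π ∘ₗ LinearMap.mulLeft k f) ∘ₗ σ

variable {A}

lemma op_apply (π σ : K →ₗ[k] K) (f g x : K) : op π σ f g x = π (f * g * σ x) - g * π (f * σ x) := rfl

lemma exists_proj (A : Subalgebra k K) : ∃ π : K →ₗ[k] K, IsProjA A π := by
  obtain ⟨L, hL⟩ := (Subalgebra.toSubmodule A).subtype.exists_leftInverse_of_injective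
    (Submodule.ker_subtype _)
  refine ⟨(Subalgebra.toSubmodule A).subtype ∘ₗ L, fun x => (L x).2, fun a ha => ?_⟩
  exact congrArg Subtype.val (DFunLike.congr_fun hL ⟨a, ha⟩)

open Classical in
/-- The residue of `f dg` with respect to `A` as a trace. -/
noncomputable def res (A : Subalgebra k K) (f g : K) : k :=
  ftr (op (exists_proj A).choose (exists_proj A).choose f g)

lemma adm_of_mem {f : K} (hf : f ∈ A) : Adm A f := by
  unfold Adm
  rw [show ((Subalgebra.toSubmodule A).map (LinearMap.mulLeft k f)).map (Subalgebra.toSubmodule A).mkQ = ⊥ from ?_]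
  · infer_instance
  rw [eq_bot_iff]
  rintro _ ⟨_, ⟨a, ha, rfl⟩, rfl⟩
  rw [Submodule.mem_bot, Submodule.mkQ_apply, Submodule.Quotient.mk_eq_zero]
  exact A.mul_mem hf ha

lemma adm_add {f f' : K} (hf : Adm A f) (hf' : Adm A f') : Adm A (f + f') := by
  unfold Adm at hf hf' ⊢
  refine Submodule.finiteDimensional_of_le (S₂ := ((Subalgebra.toSubmodule A).map (LinearMap.mulLeft k f)).map
    (Subalgebra.toSubmodule A).mkQ ⊔ ((Subalgebra.toSubmodule A).map (LinearMap.mulLeft k f')).map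
    (Subalgebra.toSubmodule A).mkQ) ?_
  rintro _ ⟨_, ⟨a, ha, rfl⟩, rfl⟩
  rw [LinearMap.mulLeft_apply, add_mul, map_add]
  exact Submodule.add_mem_sup ⟨_, ⟨a, ha, rfl⟩, rfl⟩ ⟨_, ⟨a, ha, rfl⟩, rfl⟩

lemma adm_mul {f c : K} (hf : Adm A f) (hc : c ∈ A) : Adm A (f * c) := by
  unfold Adm at hf ⊢
  refine Submodule.finiteDimensional_of_le (S₂ := ((Subalgebra.toSubmodule A).map (LinearMap.mulLeft k f)).map
    (Subalgebra.toSubmodule A).mkQ) ?_
  rintro _ ⟨_, ⟨a, ha, rfl⟩, rfl⟩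
  exact ⟨_, ⟨c * a, A.mul_mem hc ha, rfl⟩, by rw [LinearMap.mulLeft_apply, LinearMap.mulLeft_apply, mul_assoc]⟩

/-- The commutator has finite rank. -/
lemma finite_range_op {π σ : K →ₗ[k] K} (hπ : IsProjA A π) (hσ : IsProjA A σ) {f g : K} (hg : g ∈ A)
    (hf : Adm A f) : FiniteDimensional k (LinearMap.range (op π σ f g)) := by
  set A' := Subalgebra.toSubmodule A
  have hfd : FiniteDimensional k ((A'.map (LinearMap.mulLeft k f)).map A'.mkQ) := hf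
  let q : A' →ₗ[k] K ⧸ A' := A'.mkQ ∘ₗ LinearMap.mulLeft k f ∘ₗ A'.subtype
  have hq : FiniteDimensional k (LinearMap.range q) := by
    refine Submodule.finiteDimensional_of_le (S₂ := (A'.map (LinearMap.mulLeft k f)).map A'.mkQ) ?_
    rintro _ ⟨a, rfl⟩
    exact ⟨_, ⟨a, a.2, rfl⟩, rfl⟩
  have : FiniteDimensional k (A' ⧸ LinearMap.ker q) := Module.Finite.equiv q.quotKerEquivRange.symm
  have hker : LinearMap.ker q ≤ LinearMap.ker (op π σ f g ∘ₗ A'.subtype) := fun a ha => by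
    rw [LinearMap.mem_ker] at ha ⊢
    have hfa : f * (a : K) ∈ A := (Submodule.Quotient.mk_eq_zero A').1 ha
    show π (f * g * σ a) - g * π (f * σ a) = 0
    rw [hσ.2 _ a.2, hπ.2 _ hfa, show f * g * (a : K) = g * (f * a) by ring, hπ.2 _ (A.mul_mem hg hfa), sub_self]
  refine Submodule.finiteDimensional_of_le (S₂ := LinearMap.range ((LinearMap.ker q).liftQ _ hker)) ?_
  rintro _ ⟨x, rfl⟩
  refine ⟨Submodule.Quotient.mk ⟨σ x, hσ.1 x⟩, ?_⟩
  show op π σ f g (σ x) = op π σ f g x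
  rw [op_apply, op_apply, hσ.2 _ (hσ.1 x)]

lemma op_mem {π : K →ₗ[k] K} (hπ : IsProjA A π) (σ : K →ₗ[k] K) {f g : K} (hg : g ∈ A) (x : K) :
    op π σ f g x ∈ A := A.sub_mem (hπ.1 _) (A.mul_mem hg (hπ.1 _))

/-- The residue does not depend on the projections. -/
lemma res_eq {π σ : K →ₗ[k] K} (hπ : IsProjA A π) (hσ : IsProjA A σ) {f g : K} (hg : g ∈ A) (hf : Adm A f) :
    res A f g = ftr (op π σ f g) := by
  have hout : ∀ {π σ σ' : K →ₗ[k] K}, IsProjA A π → IsProjA A σ → IsProjA A σ' →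
      ftr (op π σ f g) = ftr (op π σ' f g) := fun {π σ σ'} hπ hσ hσ' => by
    have h1 : op π σ f g = op π σ' f g ∘ₗ σ := LinearMap.ext fun x => by
      rw [LinearMap.comp_apply, op_apply, op_apply, hσ'.2 _ (hσ.1 x)]
    rw [h1, ← ftr_comm (finite_range_op hπ hσ' hg hf) σ]
    congr 1
    exact LinearMap.ext fun x => hσ.2 _ (op_mem hπ σ' hg x)
  obtain ⟨π₀, hπ₀⟩ := exists_proj A
  suffices key : ∀ {π₁ π₂ : K →ₗ[k] K}, IsProjA A π₁ → IsProjA A π₂ → ftr (op π₁ π₁ f g) = ftr (op π₂ π₁ f g) by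
    rw [res, key (exists_proj A).choose_spec hπ, hout hπ (exists_proj A).choose_spec hσ]
  intro π₁ π₂ h₁ h₂
  rw [← sub_eq_zero, ← ftr_sub (finite_range_op h₁ h₁ hg hf) (finite_range_op h₂ h₁ hg hf)]
  set U : K →ₗ[k] K := (π₁ - π₂) ∘ₗ LinearMap.mulLeft k f ∘ₗ π₁ with hUdef
  set V : K →ₗ[k] K := LinearMap.mulLeft k g ∘ₗ π₁ with hVdef
  have hUA : ∀ x, U x ∈ A := fun x => A.sub_mem (h₁.1 _) (h₂.1 _)
  have hU : FiniteDimensional k (LinearMap.range U) := by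
    set A' := Subalgebra.toSubmodule A
    have hf' : FiniteDimensional k ((A'.map (LinearMap.mulLeft k f)).map A'.mkQ) := hf
    have hk : A' ≤ LinearMap.ker (π₁ - π₂) := fun a ha => by
      rw [LinearMap.mem_ker, LinearMap.sub_apply, h₁.2 a ha, h₂.2 a ha, sub_self]
    refine Submodule.finiteDimensional_of_le (S₂ := ((A'.map (LinearMap.mulLeft k f)).map A'.mkQ).map (A'.liftQ _ hk)) ?_
    rintro _ ⟨x, rfl⟩
    exact ⟨_, ⟨_, ⟨π₁ x, h₁.1 x, rfl⟩, rfl⟩, rfl⟩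
  have e : op π₁ π₁ f g - op π₂ π₁ f g = U ∘ₗ V - V ∘ₗ U := LinearMap.ext fun x => by
    simp only [LinearMap.sub_apply, op_apply, hUdef, hVdef, LinearMap.comp_apply, LinearMap.mulLeft_apply]
    rw [h₁.2 _ (A.mul_mem hg (h₁.1 x)), h₁.2 _ (A.sub_mem (h₁.1 _) (h₂.1 _)),
      show f * (g * π₁ x) = f * g * π₁ x by ring]
    ring
  rw [e, ftr_sub (Submodule.finiteDimensional_of_le (LinearMap.range_comp_le_range V U))
    (by rw [LinearMap.range_comp]; infer_instance), ftr_comm hU V, sub_self]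

lemma res_add {f f' g : K} (hg : g ∈ A) (hf : Adm A f) (hf' : Adm A f') :
    res A (f + f') g = res A f g + res A f' g := by
  obtain ⟨π, hπ⟩ := exists_proj A
  rw [res_eq hπ hπ hg hf, res_eq hπ hπ hg hf', res_eq hπ hπ hg (adm_add hf hf'),
    ← ftr_add (finite_range_op hπ hπ hg hf) (finite_range_op hπ hπ hg hf')]
  congr 1
  exact LinearMap.ext fun x => by
    simp only [LinearMap.add_apply, op_apply, add_mul, map_add]
    ring

lemma res_of_mem {f g : K} (hg : g ∈ A) (hf : f ∈ A) : res A f g = 0 := by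
  obtain ⟨π, hπ⟩ := exists_proj A
  rw [res_eq hπ hπ hg (adm_of_mem hf), show op π π f g = 0 from ?_, ftr_zero]
  refine LinearMap.ext fun x => ?_
  rw [op_apply, hπ.2 _ (A.mul_mem (A.mul_mem hf hg) (hπ.1 x)), hπ.2 _ (A.mul_mem hf (hπ.1 x)), LinearMap.zero_apply]
  ring

lemma res_smul (c : k) {f g : K} (hg : g ∈ A) (hf : Adm A f) : res A (c • f) g = c * res A f g := by
  obtain ⟨π, hπ⟩ := exists_proj A
  have hcf : Adm A (c • f) := by
    have := adm_mul hf (A.algebraMap_mem c)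
    rwa [mul_comm, ← Algebra.smul_def] at this
  rw [res_eq hπ hπ hg hf, res_eq hπ hπ hg hcf, ← ftr_smul c (finite_range_op hπ hπ hg hf)]
  congr 1
  exact LinearMap.ext fun x => by
    simp only [LinearMap.smul_apply, op_apply, smul_mul_assoc, map_smul, mul_smul_comm, smul_sub]

variable {K₂ : Type*} [CommRing K₂] [Algebra k K₂] {A₂ : Subalgebra k K₂}

/-- Comparison along an injective homomorphism. -/
theorem res_map (ρ : K →ₐ[k] K₂) (hρ : Function.Injective ρ) {f g : K} (hg : g ∈ A) (hf : Adm A f)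
    (hA : ∀ a ∈ A, ρ a ∈ A₂) (J : Submodule k K₂) (hJA : ∀ j ∈ J, j ∈ A₂) (hJ : ∀ j ∈ J, ρ f * j ∈ A₂)
    (hgen : ∀ b ∈ A₂, ∃ a ∈ A, b - ρ a ∈ J)
    (hW : ∀ a ∈ A, ∀ a' ∈ A, ρ (a' + f * a) ∈ A₂ → a' + f * a ∈ A) :
    res A₂ (ρ f) (ρ g) = res A f g := by
  set A' := Subalgebra.toSubmodule A
  obtain ⟨π, hπ⟩ := exists_proj A
  set W : Submodule k K := A' ⊔ A'.map (LinearMap.mulLeft k f) with hWdef
  have hW' : ∀ h ∈ W, ρ h ∈ A₂ → h ∈ A := by
    intro h hh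
    obtain ⟨a', ha', _, ⟨a, ha, rfl⟩, rfl⟩ := Submodule.mem_sup.1 hh
    exact hW a ha a' ha'
  set C : Submodule k K₂ := (W ⊓ LinearMap.ker π).map ρ.toLinearMap
  have hinj : LinearMap.ker (C.mkQ ∘ₗ (Subalgebra.toSubmodule A₂).subtype) = ⊥ := by
    rw [LinearMap.ker_eq_bot']
    intro b hb
    obtain ⟨c, ⟨hcW, hc0⟩, hcb⟩ := (Submodule.Quotient.mk_eq_zero C).1 hb
    have hb' : ρ c = (b : K₂) := hcb
    have hc : c ∈ A := hW' c hcW (hb'.symm ▸ b.2)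
    rw [SetLike.mem_coe, LinearMap.mem_ker, hπ.2 c hc] at hc0
    exact Subtype.ext (by rw [← hb', hc0, map_zero]; rfl)
  obtain ⟨L, hL⟩ := LinearMap.exists_leftInverse_of_injective _ hinj
  set π₂ : K₂ →ₗ[k] K₂ := (Subalgebra.toSubmodule A₂).subtype ∘ₗ L ∘ₗ C.mkQ
  have hπ₂ : IsProjA A₂ π₂ := ⟨fun x => (L _).2, fun b hb => by
    show ((L (C.mkQ b)) : K₂) = b
    exact congrArg Subtype.val (DFunLike.congr_fun hL (⟨b, hb⟩ : Subalgebra.toSubmodule A₂))⟩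
  have hcompat : ∀ h ∈ W, π₂ (ρ h) = ρ (π h) := fun h hh => by
    have hmem : h - π h ∈ W ⊓ LinearMap.ker π :=
      ⟨Submodule.sub_mem _ hh (Submodule.mem_sup_left (hπ.1 h)), by
        rw [SetLike.mem_coe, LinearMap.mem_ker, map_sub, hπ.2 _ (hπ.1 h), sub_self]⟩
    have h0 : π₂ (ρ (h - π h)) = 0 := by
      have : C.mkQ (ρ (h - π h)) = 0 := (Submodule.Quotient.mk_eq_zero C).2 ⟨_, hmem, rfl⟩
      show ((L (C.mkQ (ρ (h - π h)))) : K₂) = 0
      rw [this, map_zero]; rfl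
    rw [map_sub, map_sub, sub_eq_zero, hπ₂.2 _ (hA _ (hπ.1 h))] at h0
    exact h0
  have hfW : ∀ a ∈ A, f * a ∈ W := fun a ha => Submodule.mem_sup_right ⟨a, ha, rfl⟩
  have hf₂ : Adm A₂ (ρ f) := by
    set B := Subalgebra.toSubmodule A₂
    have hf' : FiniteDimensional k ((A'.map (LinearMap.mulLeft k f)).map A'.mkQ) := hf
    have hle : A' ≤ LinearMap.ker (B.mkQ ∘ₗ ρ.toLinearMap) := fun a ha =>
      (Submodule.Quotient.mk_eq_zero B).2 (hA a ha)
    refine Submodule.finiteDimensional_of_le (S₂ := ((A'.map (LinearMap.mulLeft k f)).map A'.mkQ).map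
      (A'.liftQ _ hle)) ?_
    rintro _ ⟨_, ⟨b, hb, rfl⟩, rfl⟩
    obtain ⟨a, ha, hab⟩ := hgen b hb
    refine ⟨_, ⟨_, ⟨a, ha, rfl⟩, rfl⟩, ?_⟩
    show B.mkQ (ρ (f * a)) = B.mkQ (ρ f * b)
    refine (Submodule.Quotient.eq B).2 ?_
    have := A₂.neg_mem (hJ _ hab)
    rwa [map_mul, show ρ f * ρ a - ρ f * b = -(ρ f * (b - ρ a)) by ring]
  set T := op π π f g
  set T₂ := op π₂ π₂ (ρ f) (ρ g)
  rw [res_eq hπ hπ hg hf, res_eq hπ₂ hπ₂ (hA g hg) hf₂]
  have hint : ∀ a ∈ A, T₂ (ρ a) = ρ (T a) := fun a ha => by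
    show op π₂ π₂ (ρ f) (ρ g) (ρ a) = ρ (op π π f g a)
    rw [op_apply, op_apply, hπ₂.2 _ (hA a ha), hπ.2 a ha, ← map_mul ρ, ← map_mul ρ, ← map_mul ρ,
      hcompat _ (hfW a ha), hcompat (f * g * a) (by rw [mul_assoc]; exact hfW _ (A.mul_mem hg ha)), map_sub ρ, map_mul ρ]
  have hJ0 : ∀ j ∈ J, T₂ j = 0 := fun j hj => by
    show op π₂ π₂ (ρ f) (ρ g) j = 0
    rw [op_apply, hπ₂.2 j (hJA j hj), hπ₂.2 _ (hJ j hj), show ρ f * ρ g * j = ρ g * (ρ f * j) by ring,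
      hπ₂.2 _ (A₂.mul_mem (hA g hg) (hJ j hj)), sub_self]
  have hrange : ∀ x, ∃ a ∈ A, T₂ x = ρ a := fun x => by
    obtain ⟨a, ha, hab⟩ := hgen (π₂ x) (hπ₂.1 x)
    refine ⟨T a, op_mem hπ π hg a, ?_⟩
    have h1 : T₂ x = T₂ (π₂ x) := by
      show op π₂ π₂ (ρ f) (ρ g) x = op π₂ π₂ (ρ f) (ρ g) (π₂ x)
      rw [op_apply, op_apply, hπ₂.2 _ (hπ₂.1 x)]
    rw [h1, show π₂ x = ρ a + (π₂ x - ρ a) by ring, map_add, hJ0 _ hab, add_zero, hint a ha]
  obtain ⟨ℓ, hℓ⟩ := ρ.toLinearMap.exists_leftInverse_of_injective (LinearMap.ker_eq_bot.2 hρ)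
  have hℓ' : ∀ y, ℓ (ρ y) = y := fun y => DFunLike.congr_fun hℓ y
  have hfin₂ := finite_range_op hπ₂ hπ₂ (hA g hg) hf₂
  have hT : T = (ℓ ∘ₗ T₂) ∘ₗ (ρ.toLinearMap ∘ₗ π) := LinearMap.ext fun x => by
    show T x = ℓ (T₂ (ρ (π x)))
    rw [hint _ (hπ.1 x), hℓ']
    show op π π f g x = op π π f g (π x)
    rw [op_apply, op_apply, hπ.2 _ (hπ.1 x)]
  show ftr T₂ = ftr T
  rw [hT, ← ftr_comm (by rw [LinearMap.range_comp]; infer_instance) (ρ.toLinearMap ∘ₗ π)]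
  congr 1
  refine LinearMap.ext fun x => ?_
  obtain ⟨a, ha, hax⟩ := hrange x
  show T₂ x = ρ (π (ℓ (T₂ x)))
  rw [hax, hℓ', hπ.2 a ha]

end Groth.Agent.TraceResLib
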