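import Groth.Agent.TraceResLib.Basic

/-!
# Residues in a free extension
-/

open Module LinearMap

namespace Groth.Agent.TraceResLib

variable {k : Type*} [Field k] {K : Type*} [CommRing K] [Algebra k K] {A : Subalgebra k K}

/-- Products of admissible elements are admissible. -/
lemma adm_mul' {f f' : K} (hf : Adm A f) (hf' : Adm A f') : Adm A (f * f') := by
  set A' := Subalgebra.toSubmodule A
  set R := (A'.map (LinearMap.mulLeft k f)).map A'.mkQ with hR
  set R' := (A'.map (LinearMap.mulLeft k f')).map A'.mkQ with hR'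
  have hRf : FiniteDimensional k R := hf
  have hRf' : FiniteDimensional k R' := hf'
  obtain ⟨s, hs⟩ : ∃ s : (K ⧸ A') →ₗ[k] K, A'.mkQ ∘ₗ s = LinearMap.id :=
    LinearMap.exists_rightInverse_of_surjective _ (Submodule.range_mkQ _)
  show FiniteDimensional k ((A'.map (LinearMap.mulLeft k (f * f'))).map A'.mkQ)
  refine Submodule.finiteDimensional_of_le (S₂ := R'.map (A'.mkQ ∘ₗ LinearMap.mulLeft k f ∘ₗ s) ⊔ R) ?_
  rintro _ ⟨_, ⟨a, ha, rfl⟩, rfl⟩
  have hb : f' * a - s (A'.mkQ (f' * a)) ∈ A' :=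
    (Submodule.Quotient.eq A').1 (DFunLike.congr_fun hs (A'.mkQ (f' * a))).symm
  have e : A'.mkQ (LinearMap.mulLeft k (f * f') a) = A'.mkQ (f * s (A'.mkQ (f' * a))) +
      A'.mkQ (f * (f' * a - s (A'.mkQ (f' * a)))) := by
    rw [← map_add, LinearMap.mulLeft_apply, ← mul_add, add_sub_cancel, mul_assoc]
  rw [e]
  exact Submodule.add_mem_sup ⟨_, ⟨_, ⟨a, ha, rfl⟩, rfl⟩, rfl⟩ ⟨_, ⟨_, hb, rfl⟩, rfl⟩

variable {K' : Type*} [CommRing K'] [Algebra k K'] [Algebra K K'] [IsScalarTower k K K'] {A' : Subalgebra k K'}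
  {ι : Type*} [Fintype ι] (b : Basis ι K K')

/-- The residue in a free extension is the residue of the trace. -/
theorem res_block (hA' : ∀ z, z ∈ A' ↔ ∀ i, b.repr z i ∈ A) {g : K} (hg : g ∈ A) {y : K'}
    (hy : ∀ i j, Adm A (b.repr (y * b j) i)) :
    Adm A' y ∧ res A' y (algebraMap K K' g) = res A (Algebra.trace K K' y) g := by
  classical
  obtain ⟨π, hπ⟩ := exists_proj A
  let E : ι → (K →ₗ[k] K') := fun i => (LinearMap.mulRight k (b i)) ∘ₗ (IsScalarTower.toAlgHom k K K').toLinearMap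
  let P : ι → (K' →ₗ[k] K) := fun i => (b.coord i).restrictScalars k
  have hE : ∀ i a, E i a = algebraMap K K' a * b i := fun i a => rfl
  have hsum : ∀ z : K', ∑ i, E i (b.repr z i) = z := fun z => by
    conv_rhs => rw [← b.sum_repr z]
    exact Finset.sum_congr rfl fun i _ => by rw [hE, Algebra.smul_def]
  have hreprE : ∀ (c : ι → K) i, b.repr (∑ j, E j (c j)) i = c i := fun c i => by
    simp only [hE, ← Algebra.smul_def, b.repr_sum_self]
  let π' : K' →ₗ[k] K' := ∑ i, E i ∘ₗ π ∘ₗ P i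
  have hπ'a : ∀ z, π' z = ∑ i, E i (π (b.repr z i)) := fun z => by
    simp only [π', LinearMap.sum_apply, LinearMap.comp_apply]
    rfl
  have hπ' : IsProjA A' π' := ⟨fun z => by
    rw [hπ'a, hA']
    intro i
    rw [hreprE]
    exact hπ.1 _, fun z hz => by
    rw [hπ'a]
    conv_rhs => rw [← hsum z]
    exact Finset.sum_congr rfl fun i _ => by rw [hπ.2 _ ((hA' z).1 hz i)]⟩
  have hmat : ∀ z i, b.repr (y * z) i = ∑ j, b.repr (y * b j) i * b.repr z j := fun z i => by
    conv_lhs => rw [← b.sum_repr z, Finset.mul_sum, map_sum, Finsupp.finsetSum_apply]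
    exact Finset.sum_congr rfl fun j _ => by rw [mul_smul_comm, map_smul, Finsupp.smul_apply, smul_eq_mul, mul_comm]
  have hadm : Adm A' y := by
    set B := Subalgebra.toSubmodule A
    set B' := Subalgebra.toSubmodule A'
    have hle : ∀ i, B ≤ LinearMap.ker (B'.mkQ ∘ₗ E i) := fun i a ha =>
      (Submodule.Quotient.mk_eq_zero B').2 ((hA' _).2 fun l => by
        rw [hE, ← Algebra.smul_def, map_smul, b.repr_self, Finsupp.smul_apply, smul_eq_mul]
        rcases eq_or_ne i l with rfl | hne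
        · rw [Finsupp.single_eq_same, mul_one]; exact ha
        · rw [Finsupp.single_eq_of_ne hne.symm, mul_zero]; exact A.zero_mem)
    have hfd : ∀ ij : ι × ι, FiniteDimensional k
        (((B.map (LinearMap.mulLeft k (b.repr (y * b ij.2) ij.1))).map B.mkQ).map (B.liftQ _ (hle ij.1))) :=
      fun ij => by
        have : FiniteDimensional k ((B.map (LinearMap.mulLeft k (b.repr (y * b ij.2) ij.1))).map B.mkQ) := hy _ _
        infer_instance
    show FiniteDimensional k ((B'.map (LinearMap.mulLeft k y)).map B'.mkQ)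
    refine Submodule.finiteDimensional_of_le (S₂ := ⨆ ij : ι × ι,
      ((B.map (LinearMap.mulLeft k (b.repr (y * b ij.2) ij.1))).map B.mkQ).map (B.liftQ _ (hle ij.1))) ?_
    rintro _ ⟨_, ⟨z, hz, rfl⟩, rfl⟩
    rw [LinearMap.mulLeft_apply, ← hsum (y * z), map_sum]
    refine Submodule.sum_mem _ fun i _ => ?_
    rw [hmat, map_sum, map_sum]
    refine Submodule.sum_mem _ fun j _ => Submodule.mem_iSup_of_mem (i, j) ?_
    exact ⟨_, ⟨_, ⟨b.repr z j, (hA' z).1 hz j, rfl⟩, rfl⟩, rfl⟩
  have hgA' : algebraMap K K' g ∈ A' := by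
    rw [hA']
    intro i
    have h1 : (1 : K') ∈ A' := A'.one_mem
    rw [Algebra.algebraMap_eq_smul_one, map_smul, Finsupp.smul_apply, smul_eq_mul]
    exact A.mul_mem hg ((hA' 1).1 h1 i)
  refine ⟨hadm, ?_⟩
  rw [res_eq hπ' hπ' hgA' hadm]
  set T : ι × ι → (K' →ₗ[k] K') := fun ij =>
    E ij.1 ∘ₗ (op π π (b.repr (y * b ij.2) ij.1) g ∘ₗ P ij.2) with hT
  have hop : op π' π' y (algebraMap K K' g) = ∑ ij, T ij := LinearMap.ext fun z => by
    have hg' : ∀ w i, b.repr (algebraMap K K' g * w) i = g * b.repr w i := fun w i => by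
      rw [← Algebra.smul_def, map_smul, Finsupp.smul_apply, smul_eq_mul]
    have hσ : ∀ j, b.repr (π' z) j = π (b.repr z j) := fun j => by rw [hπ'a, hreprE]
    rw [LinearMap.sum_apply, Fintype.sum_prod_type, op_apply, hπ'a (y * algebraMap K K' g * π' z),
      hπ'a (y * π' z), Finset.mul_sum, ← Finset.sum_sub_distrib]
    refine Finset.sum_congr rfl fun i _ => ?_
    rw [mul_comm y, mul_assoc, hg', hmat, Finset.mul_sum, map_sum, map_sum, map_sum, map_sum, Finset.mul_sum,
      ← Finset.sum_sub_distrib]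
    refine Finset.sum_congr rfl fun j _ => ?_
    simp only [hT, LinearMap.comp_apply, op_apply, hE, hσ]
    show _ = algebraMap K K' (π (b.repr (y * b j) i * g * π (b.repr z j)) -
      g * π (b.repr (y * b j) i * π (b.repr z j))) * b i
    rw [_root_.map_sub (algebraMap K K'), _root_.map_mul (algebraMap K K')]
    ring_nf
  have hfin : ∀ ij : ι × ι, FiniteDimensional k (LinearMap.range (op π π (b.repr (y * b ij.2) ij.1) g ∘ₗ P ij.2)) :=
    fun ij => by
      have := finite_range_op hπ hπ hg (hy ij.1 ij.2)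
      exact Submodule.finiteDimensional_of_le (LinearMap.range_comp_le_range _ _)
  have hdiag : ∀ ij : ι × ι, ftr (T ij) = if ij.1 = ij.2 then ftr (op π π (b.repr (y * b ij.2) ij.1) g) else 0 := by
    rintro ⟨i, j⟩
    rw [hT, ftr_comm (hfin (i, j)) (E i), LinearMap.comp_assoc,
      show P j ∘ₗ E i = if i = j then LinearMap.id else 0 from LinearMap.ext fun a => by
        show b.repr (E i a) j = _
        rw [hE, ← Algebra.smul_def, map_smul, b.repr_self, Finsupp.smul_apply, smul_eq_mul]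
        rcases eq_or_ne i j with rfl | hne
        · rw [if_pos rfl, Finsupp.single_eq_same, mul_one]; rfl
        · rw [if_neg hne, Finsupp.single_eq_of_ne hne.symm, mul_zero]; rfl]
    split_ifs
    · rw [LinearMap.comp_id]
    · rw [LinearMap.comp_zero, ftr_zero]
  rw [hop, (ftr_sum _ fun ij _ => by rw [hT]; have := hfin ij; rw [LinearMap.range_comp]; infer_instance).1,
    Fintype.sum_prod_type]
  simp only [hdiag, Finset.sum_ite_eq, Finset.mem_univ, if_true]
  rw [Algebra.trace_eq_matrix_trace b, Matrix.trace]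
  simp only [Matrix.diag_apply, Algebra.leftMulMatrix_eq_repr_mul]
  have key : ∀ s : Finset ι, Adm A (∑ i ∈ s, b.repr (y * b i) i) ∧
      res A (∑ i ∈ s, b.repr (y * b i) i) g = ∑ i ∈ s, ftr (op π π (b.repr (y * b i) i) g) := by
    intro s
    induction s using Finset.induction_on with
    | empty => exact ⟨adm_of_mem A.zero_mem, by rw [Finset.sum_empty, Finset.sum_empty, res_of_mem hg A.zero_mem]⟩
    | insert a s ha ih =>
      rw [Finset.sum_insert ha, Finset.sum_insert ha, res_add hg (hy a a) ih.1, res_eq hπ hπ hg (hy a a), ih.2]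
      exact ⟨adm_add (hy a a) ih.1, rfl⟩
  exact (key Finset.univ).2.symm

end Groth.Agent.TraceResLib
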