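import Groth.Agent.TraceResLib.Global

/-!
# The trace formula over a complete field
-/

open Module LinearMap WithZero

namespace Groth.Agent.TraceResLib

open LocRes Groth.Agent.FFLib

universe u

variable {k : Type u} [Field k] {K : Type*} [Field K] [Algebra k K] {F : Type*} [Field F] [Algebra k F]
  [FiniteDimensional k F]

noncomputable local instance (priority := 10000) smulLaurent'' {F : Type*} [Field F] [Algebra k F] :
    SMul k (LaurentSeries F) := Algebra.toSMul

noncomputable local instance (priority := 10000) moduleLaurent'' {F : Type*} [Field F] [Algebra k F] :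
    Module k (LaurentSeries F) := Algebra.toModule

variable {v : Valuation K (WithZero (Multiplicative ℤ))} {A : Subalgebra k K} (hA : ∀ x, x ∈ A ↔ v x ≤ 1)
  {φ : K →ₐ[k] LaurentSeries F} (hφ : IsExpansionAt v φ)

include hA hφ in
/-- Admissibility at a valuation with an expansion. -/
lemma adm_of_expansion (f : K) : Adm A f := by
  obtain ⟨N, hN⟩ : ∃ N : ℕ, ∀ n : ℤ, n < -(N : ℤ) → (φ f).coeff n = 0 :=
    ⟨(-(φ f).order).toNat, fun n hn => HahnSeries.coeff_eq_zero_of_lt_order (by omega)⟩
  have hNv := (LaurentSeries.valuation_le_iff_coeff_lt_eq_zero F).2 hN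
  rw [neg_neg] at hNv
  set A' := Subalgebra.toSubmodule A
  let c : (A'.map (LinearMap.mulLeft k f)) →ₗ[k] (Fin N → F) :=
    { toFun := fun x i => (φ (x : K)).coeff (-(i : ℤ) - 1)
      map_add' := fun x y => funext fun i => by simp
      map_smul' := fun r x => funext fun i => by
        rw [RingHom.id_apply, Pi.smul_apply, Algebra.smul_def r ((φ (x : K)).coeff _)]
        show (φ (r • (x : K))).coeff _ = _
        rw [Algebra.smul_def, map_mul φ, φ.commutes, algebraMap_laurent, HahnSeries.C_mul_eq_smul,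
          HahnSeries.coeff_smul, smul_eq_mul] }
  set q := A'.mkQ ∘ₗ (A'.map (LinearMap.mulLeft k f)).subtype with hq
  have hle : LinearMap.ker c ≤ LinearMap.ker q := fun x hx => by
    rw [LinearMap.mem_ker] at hx ⊢
    obtain ⟨_, a, ha, rfl⟩ := x
    refine (Submodule.Quotient.mk_eq_zero A').2 ((hA _).2 ?_)
    show v (f * a) ≤ 1
    rw [← hφ.1, ← exp_zero, show (exp (0 : ℤ) : WithZero (Multiplicative ℤ)) = exp (-0) by norm_num,
      LaurentSeries.valuation_le_iff_coeff_lt_eq_zero]
    intro n hn
    rcases lt_or_ge n (-(N : ℤ)) with h | h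
    · refine LaurentSeries.coeff_zero_of_lt_valuation F (D := -(N : ℤ)) ?_ h
      rw [map_mul, map_mul, neg_neg]
      refine (mul_le_mul' hNv ?_).trans_eq (mul_one _)
      rw [hφ.1]; exact (hA a).1 ha
    · have h1 := congrFun hx ⟨(-n - 1).toNat, by omega⟩
      simp only [c, LinearMap.coe_mk, AddHom.coe_mk, Pi.zero_apply] at h1
      rw [show -(((-n - 1).toNat : ℕ) : ℤ) - 1 = n by omega] at h1
      exact h1
  show FiniteDimensional k ((A'.map (LinearMap.mulLeft k f)).map A'.mkQ)
  rw [show (A'.map (LinearMap.mulLeft k f)).map A'.mkQ = LinearMap.range q by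
    rw [hq, LinearMap.range_comp, Submodule.range_subtype], ← Submodule.range_liftQ _ q hle]
  have : FiniteDimensional k (↥(A'.map (LinearMap.mulLeft k f)) ⧸ LinearMap.ker c) :=
    Module.Finite.equiv c.quotKerEquivRange.symm
  infer_instance

include hA hφ in
/-- Trace residues at a valuation with an expansion. -/
theorem res_eq_locRes {f g : K} (hg : v g ≤ 1) : res A f g = locRes φ f g := by
  obtain ⟨N, hN⟩ : ∃ N : ℕ, v f ≤ exp (N : ℤ) := by
    rcases eq_or_ne (v f) 0 with h | h
    · exact ⟨0, by rw [h]; exact zero_le⟩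
    · exact ⟨(log (v f)).toNat, by rw [← exp_log h, exp_le_exp, log_exp]; omega⟩
  have hadm := adm_of_expansion hA hφ f
  obtain ⟨hφv, hres, t, ht⟩ := hφ
  have hgA : φ g ∈ intSeries k F := mem_intSeries_iff.2 ((hφv g).trans_le hg)
  refine ((res_map φ φ.toRingHom.injective ((hA g).2 hg) hadm
    (fun a ha => mem_intSeries_iff.2 ((hφv a).trans_le ((hA a).1 ha)))
    { carrier := {x | ∀ n : ℤ, n < N → x.coeff n = 0}
      add_mem' := fun hx hy n hn => by rw [HahnSeries.coeff_add, hx n hn, hy n hn, add_zero]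
      zero_mem' := fun n _ => HahnSeries.coeff_zero
      smul_mem' := fun c x hx n hn => by
        rw [Algebra.smul_def, algebraMap_laurent, HahnSeries.C_mul_eq_smul, HahnSeries.coeff_smul, hx n hn,
          smul_zero] }
    (fun j hj n hn => hj n (by omega)) ?_ ?_ ?_).symm).trans ((res_laurent hgA).2.trans rfl)
  · intro j hj
    rw [mem_intSeries_iff, map_mul, hφv]
    refine (mul_le_mul' hN
      ((LaurentSeries.valuation_le_iff_coeff_lt_eq_zero F (D := (N : ℤ))).2 hj)).trans_eq ?_
    rw [← exp_add, ← exp_zero]; congr 1; ring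
  · have key : ∀ (m : ℕ) (b : LaurentSeries F), Valued.v b ≤ 1 →
        ∃ a : K, v a ≤ 1 ∧ Valued.v (b - φ a) ≤ exp (-(m : ℤ)) := by
      intro m
      induction m with
      | zero => intro b hb; exact ⟨0, by simp, by simpa using hb⟩
      | succ m ih =>
        intro b hb
        obtain ⟨a₀, ha₀, hc⟩ := hres (b.coeff 0)
        have hφa : Valued.v (φ a₀) ≤ 1 := (hφv a₀).trans_le ha₀
        have h1 : Valued.v (b - φ a₀) ≤ exp (-(1 : ℤ)) := by
          rw [LaurentSeries.valuation_le_iff_coeff_lt_eq_zero]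
          intro i hi
          rw [HahnSeries.coeff_sub]
          rcases lt_or_eq_of_le (show i ≤ 0 by omega) with h' | h'
          · rw [LaurentSeries.coeff_zero_of_lt_valuation F (D := 0) (by simpa using hb) h',
              LaurentSeries.coeff_zero_of_lt_valuation F (D := 0) (by simpa using hφa) h', sub_zero]
          · rw [h', hc, sub_self]
        have hφt : Valued.v (φ t) = exp (-1 : ℤ) := (hφv t).trans ht
        have hφt0 : φ t ≠ 0 := fun h => by rw [h, map_zero] at hφt; exact exp_ne_zero hφt.symm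
        obtain ⟨a₁, ha₁, hb₁⟩ := ih ((b - φ a₀) / φ t) (by
          rw [map_div₀, hφt]; exact div_le_one_of_le₀ h1 zero_le)
        refine ⟨a₀ + t * a₁, (v.map_add _ _).trans (max_le ha₀ ?_), ?_⟩
        · rw [map_mul, ht]
          exact mul_le_one' (by rw [← exp_zero, exp_le_exp]; norm_num) ha₁
        · rw [map_add φ, map_mul φ, show b - (φ a₀ + φ t * φ a₁) = φ t * ((b - φ a₀) / φ t - φ a₁) by
            rw [mul_sub, mul_div_cancel₀ _ hφt0]; ring, map_mul, hφt]
          refine (mul_le_mul' le_rfl hb₁).trans_eq ?_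
          rw [← exp_add]; congr 1; push_cast; ring
    intro b hb
    obtain ⟨a, ha, hab⟩ := key N b (mem_intSeries_iff.1 hb)
    exact ⟨a, (hA a).2 ha, (LaurentSeries.valuation_le_iff_coeff_lt_eq_zero F).1 hab⟩
  · intro a _ a' _ h
    rw [mem_intSeries_iff, hφv] at h
    exact (hA _).2 h

end Groth.Agent.TraceResLib
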