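import Mathlib

/-!
# Traces of finite-rank endomorphisms
-/

open Module LinearMap

namespace Groth.Agent.TraceResLib

variable {k : Type*} [Field k] {M N : Type*} [AddCommGroup M] [Module k M] [AddCommGroup N] [Module k N]

open Classical in
/-- The trace of an endomorphism with finite-dimensional range (zero otherwise). -/
noncomputable def ftr (T : M →ₗ[k] M) : k :=
  if FiniteDimensional k (LinearMap.range T) then
    LinearMap.trace k _ (T.restrict (p := LinearMap.range T) (q := LinearMap.range T) fun x _ => ⟨x, rfl⟩)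
  else 0

/-- The trace can be computed on any finite-dimensional subspace containing the range. -/
lemma ftr_eq_restrict {T : M →ₗ[k] M} (S : Submodule k M) [FiniteDimensional k S] (h : LinearMap.range T ≤ S) :
    ftr T = LinearMap.trace k S (T.restrict (p := S) (q := S) fun x _ => h ⟨x, rfl⟩) := by
  have hfin : FiniteDimensional k (LinearMap.range T) := Submodule.finiteDimensional_of_le h
  rw [ftr, if_pos hfin]
  let j : LinearMap.range T →ₗ[k] S := Submodule.inclusion h
  let q : S →ₗ[k] LinearMap.range T := T.rangeRestrict ∘ₗ S.subtype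
  have h1 : (T.restrict (p := LinearMap.range T) (q := LinearMap.range T) fun x _ => ⟨x, rfl⟩) = q ∘ₗ j :=
    LinearMap.ext fun x => Subtype.ext rfl
  have h2 : (T.restrict (p := S) (q := S) fun x _ => h ⟨x, rfl⟩) = j ∘ₗ q :=
    LinearMap.ext fun x => Subtype.ext rfl
  rw [h1, h2, LinearMap.trace_comp_comm']

lemma ftr_finite [FiniteDimensional k M] (T : M →ₗ[k] M) : ftr T = LinearMap.trace k M T := by
  rw [ftr_eq_restrict ⊤ le_top]
  let j : (⊤ : Submodule k M) →ₗ[k] M := Submodule.subtype ⊤
  let q : M →ₗ[k] (⊤ : Submodule k M) := T.codRestrict ⊤ fun _ => trivial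
  rw [show (T.restrict (p := (⊤ : Submodule k M)) (q := (⊤ : Submodule k M)) fun x _ => trivial) = q ∘ₗ j from
    LinearMap.ext fun x => Subtype.ext rfl, LinearMap.trace_comp_comm']
  rfl

@[simp] lemma ftr_zero : ftr (0 : M →ₗ[k] M) = 0 := by
  rw [ftr_eq_restrict (⊥ : Submodule k M) (by simp)]
  rw [show ((0 : M →ₗ[k] M).restrict (p := (⊥ : Submodule k M)) (q := (⊥ : Submodule k M)) fun x _ => by simp) = 0 from
    LinearMap.ext fun x => Subtype.ext rfl, map_zero]

lemma finite_range_add {T U : M →ₗ[k] N} (hT : FiniteDimensional k (LinearMap.range T))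
    (hU : FiniteDimensional k (LinearMap.range U)) : FiniteDimensional k (LinearMap.range (T + U)) :=
  Submodule.finiteDimensional_of_le (S₂ := LinearMap.range T ⊔ LinearMap.range U) (by
    rintro _ ⟨x, rfl⟩
    exact Submodule.add_mem_sup ⟨x, rfl⟩ ⟨x, rfl⟩)

lemma finite_range_smul (c : k) {T : M →ₗ[k] N} (hT : FiniteDimensional k (LinearMap.range T)) :
    FiniteDimensional k (LinearMap.range (c • T)) :=
  Submodule.finiteDimensional_of_le (S₂ := LinearMap.range T) (by
    rintro _ ⟨x, rfl⟩
    exact ⟨c • x, by simp⟩)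

lemma ftr_add {T U : M →ₗ[k] M} (hT : FiniteDimensional k (LinearMap.range T))
    (hU : FiniteDimensional k (LinearMap.range U)) : ftr (T + U) = ftr T + ftr U := by
  have hS : LinearMap.range (T + U) ≤ LinearMap.range T ⊔ LinearMap.range U := by
    rintro _ ⟨x, rfl⟩
    exact Submodule.add_mem_sup ⟨x, rfl⟩ ⟨x, rfl⟩
  rw [ftr_eq_restrict _ hS, ftr_eq_restrict (LinearMap.range T ⊔ LinearMap.range U) le_sup_left,
    ftr_eq_restrict (LinearMap.range T ⊔ LinearMap.range U) le_sup_right, ← map_add]
  congr 1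

lemma ftr_smul (c : k) {T : M →ₗ[k] M} (hT : FiniteDimensional k (LinearMap.range T)) :
    ftr (c • T) = c * ftr T := by
  rw [ftr_eq_restrict (LinearMap.range T) (by rintro _ ⟨x, rfl⟩; exact ⟨c • x, by simp⟩),
    ftr_eq_restrict (LinearMap.range T) le_rfl, ← smul_eq_mul, ← map_smul]
  congr 1

lemma ftr_sub {T U : M →ₗ[k] M} (hT : FiniteDimensional k (LinearMap.range T))
    (hU : FiniteDimensional k (LinearMap.range U)) : ftr (T - U) = ftr T - ftr U := by
  rw [sub_eq_add_neg, ← neg_one_smul k U, ftr_add hT (finite_range_smul _ hU), ftr_smul _ hU]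
  ring

lemma ftr_sum {ι : Type*} (s : Finset ι) {T : ι → M →ₗ[k] M}
    (hT : ∀ i ∈ s, FiniteDimensional k (LinearMap.range (T i))) :
    ftr (∑ i ∈ s, T i) = ∑ i ∈ s, ftr (T i) ∧ FiniteDimensional k (LinearMap.range (∑ i ∈ s, T i)) := by
  classical
  induction s using Finset.induction_on with
  | empty =>
    simp only [Finset.sum_empty, ftr_zero, true_and]
    refine Submodule.finiteDimensional_of_le (S₂ := (⊥ : Submodule k M)) ?_
    simp
  | insert a s ha ih =>
    obtain ⟨h1, h2⟩ := ih fun i hi => hT i (Finset.mem_insert_of_mem hi)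
    have h3 := hT a (Finset.mem_insert_self _ _)
    rw [Finset.sum_insert ha, Finset.sum_insert ha, ftr_add h3 h2, h1]
    exact ⟨rfl, finite_range_add h3 h2⟩

/-- The trace does not see the order of a composition with a finite-rank factor. -/
lemma ftr_comm {U : M →ₗ[k] N} (hU : FiniteDimensional k (LinearMap.range U)) (V : N →ₗ[k] M) :
    ftr (V ∘ₗ U) = ftr (U ∘ₗ V) := by
  set S := LinearMap.range U
  set S' := S.map V
  rw [ftr_eq_restrict (T := V ∘ₗ U) S' (by rw [LinearMap.range_comp]),
    ftr_eq_restrict (T := U ∘ₗ V) S (LinearMap.range_comp_le_range _ _)]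
  let u : S' →ₗ[k] S := U.restrict fun x _ => ⟨x, rfl⟩
  let v : S →ₗ[k] S' := V.restrict fun x hx => ⟨x, hx, rfl⟩
  rw [show ((V ∘ₗ U).restrict (p := S') (q := S') fun x _ => ⟨U x, ⟨x, rfl⟩, rfl⟩) = v ∘ₗ u from
      LinearMap.ext fun x => Subtype.ext rfl,
    show ((U ∘ₗ V).restrict (p := S) (q := S) fun x _ => ⟨V x, rfl⟩) = u ∘ₗ v from
      LinearMap.ext fun x => Subtype.ext rfl, LinearMap.trace_comp_comm']

end Groth.Agent.TraceResLib
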