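import Groth.Agent.TraceResLib.Basic
import Groth.Prelude.Def_LocRes

/-!
# The trace residue of Laurent series
-/

open Module LinearMap WithZero

namespace Groth.Agent.TraceResLib

variable (k : Type*) [Field k] (F : Type*) [Field F] [Algebra k F]

noncomputable local instance (priority := 10000) smulLaurent : SMul k (LaurentSeries F) := Algebra.toSMul

noncomputable local instance (priority := 10000) moduleLaurent : Module k (LaurentSeries F) := Algebra.toModule

lemma algebraMap_laurent (c : k) :
    algebraMap k (LaurentSeries F) c = HahnSeries.C (algebraMap k F c) := by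
  rw [HahnSeries.algebraMap_apply', PowerSeries.algebraMap_apply, HahnSeries.ofPowerSeries_C]

/-- Power series as a subalgebra of Laurent series. -/
noncomputable def intSeries : Subalgebra k (LaurentSeries F) where
  carrier := {f | ∀ n : ℤ, n < 0 → f.coeff n = 0}
  mul_mem' {f g} hf hg := by
    have h1 : Valued.v f ≤ exp (-(0 : ℤ)) := LaurentSeries.valuation_le_iff_coeff_lt_eq_zero F |>.2 hf
    have h2 : Valued.v g ≤ exp (-(0 : ℤ)) := LaurentSeries.valuation_le_iff_coeff_lt_eq_zero F |>.2 hg
    refine (LaurentSeries.valuation_le_iff_coeff_lt_eq_zero F).1 ?_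
    rw [map_mul]
    simp only [neg_zero, exp_zero] at h1 h2 ⊢
    exact mul_le_one' h1 h2
  add_mem' {f g} hf hg n hn := by rw [HahnSeries.coeff_add, hf n hn, hg n hn, add_zero]
  algebraMap_mem' c n hn := by
    rw [algebraMap_laurent, HahnSeries.C_apply, HahnSeries.coeff_single_of_ne hn.ne]

variable {k F}

lemma mem_intSeries_iff {f : LaurentSeries F} : f ∈ intSeries k F ↔ Valued.v f ≤ 1 := by
  rw [show (1 : WithZero (Multiplicative ℤ)) = exp (-(0 : ℤ)) by simp, LaurentSeries.valuation_le_iff_coeff_lt_eq_zero]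
  rfl

lemma smul_coeff' (c : k) (f : LaurentSeries F) (n : ℤ) :
    (c • f).coeff n = algebraMap k F c * f.coeff n := by
  rw [Algebra.smul_def, algebraMap_laurent, HahnSeries.C_mul_eq_smul, HahnSeries.coeff_smul, smul_eq_mul]

variable (k F) in
/-- The nonnegative part. -/
noncomputable def trunc : LaurentSeries F →ₗ[k] LaurentSeries F where
  toFun f := ((PowerSeries.mk fun n : ℕ => f.coeff n : PowerSeries F) : LaurentSeries F)
  map_add' f g := by
    rw [← PowerSeries.coe_add]
    congr 1
  map_smul' c f := by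
    ext n
    rw [RingHom.id_apply, smul_coeff', PowerSeries.coeff_coe, PowerSeries.coeff_coe]
    split_ifs with h
    · rw [mul_zero]
    · rw [PowerSeries.coeff_mk, PowerSeries.coeff_mk, smul_coeff']

lemma trunc_coeff (f : LaurentSeries F) (n : ℤ) : (trunc k F f).coeff n = if n < 0 then 0 else f.coeff n := by
  show ((PowerSeries.mk fun n : ℕ => f.coeff n : PowerSeries F) : LaurentSeries F).coeff n = _
  rw [PowerSeries.coeff_coe]
  split_ifs with h
  · rfl
  · rw [PowerSeries.coeff_mk, Int.natCast_natAbs, abs_of_nonneg (not_lt.1 h)]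

lemma isProj_trunc : IsProjA (intSeries k F) (trunc k F) := by
  refine ⟨fun f n hn => by rw [trunc_coeff, if_pos hn], fun f hf => ?_⟩
  ext n
  rw [trunc_coeff]
  split_ifs with h
  · exact (hf n h).symm
  · rfl

variable (k) in
lemma exists_coe_of_int {f : LaurentSeries F} (hf : f ∈ intSeries k F) :
    ∃ G : PowerSeries F, (G : LaurentSeries F) = f :=
  ⟨_, (isProj_trunc (k := k)).2 f hf⟩

lemma sum_sub_sum_range {M : Type*} [AddCommGroup M] (a : ℕ → M) (N : ℕ) :
    ∑ n ∈ Finset.range N, ((∑ i ∈ Finset.range (N + 1), a i) - ∑ i ∈ Finset.range (n + 1), a i) =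
      ∑ i ∈ Finset.range N, (i + 1) • a (i + 1) := by
  induction N with
  | zero => simp
  | succ N ih =>
    rw [Finset.sum_range_succ _ (N + 1)]
    simp only [add_sub_right_comm _ (a (N + 1))]
    rw [Finset.sum_add_distrib, Finset.sum_const, Finset.card_range, Finset.sum_range_succ _ N, sub_self, add_zero,
      ih, Finset.sum_range_succ (fun i => (i + 1) • a (i + 1)) N]

/-- Residues of Laurent series as traces. -/
theorem res_laurent [FiniteDimensional k F] {f g : LaurentSeries F} (hg : g ∈ intSeries k F) :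
    Adm (intSeries k F) f ∧ res (intSeries k F) f g = Algebra.trace k F (LocRes.res F (f * LocRes.D F g)) := by
  classical
  obtain ⟨N, hN⟩ : ∃ N : ℕ, ∀ n : ℤ, n < -(N : ℤ) → f.coeff n = 0 := by
    refine ⟨(-f.order).toNat, fun n hn => HahnSeries.coeff_eq_zero_of_lt_order ?_⟩
    omega
  obtain ⟨G, rfl⟩ := exists_coe_of_int k hg
  set Fp : PowerSeries F := PowerSeries.mk fun n : ℕ => f.coeff ((n : ℤ) - N)
  have hfF : f = HahnSeries.single (-(N : ℤ)) 1 * (Fp : LaurentSeries F) := by
    ext n
    rw [HahnSeries.coeff_single_mul, one_mul, sub_neg_eq_add, PowerSeries.coeff_coe]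
    split_ifs with h
    · exact hN n (by omega)
    · rw [PowerSeries.coeff_mk, Int.natCast_natAbs, abs_of_nonneg (not_lt.1 h), add_sub_cancel_right]
  have hshift : ∀ (P : PowerSeries F) (n : ℕ), (f * (P : LaurentSeries F)).coeff ((n : ℤ) - N) =
      ∑ ij ∈ Finset.HasAntidiagonal.antidiagonal n, f.coeff ((ij.1 : ℤ) - N) * PowerSeries.coeff ij.2 P := fun P n => by
    rw [hfF, mul_assoc, ← PowerSeries.coe_mul, HahnSeries.coeff_single_mul, one_mul, sub_neg_eq_add, sub_add_cancel,
      PowerSeries.coeff_coe, if_neg (by omega), Int.natAbs_natCast, PowerSeries.coeff_mul]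
    refine Finset.sum_congr rfl fun ij _ => ?_
    rw [← hfF, PowerSeries.coeff_mk]
  set π := trunc k F
  set A := intSeries k F
  set g' : LaurentSeries F := (G : LaurentSeries F)
  have hp := isProj_trunc (k := k) (F := F)
  let e : ℕ → (F →ₗ[k] LaurentSeries F) := fun n =>
    { toFun := fun c => HahnSeries.single (n : ℤ) c
      map_add' := fun a b => (HahnSeries.single.addMonoidHom (R := F) (n : ℤ)).map_add a b
      map_smul' := fun c a => by
        ext i
        rw [RingHom.id_apply, smul_coeff']
        rcases eq_or_ne i (n : ℤ) with rfl | h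
        · rw [HahnSeries.coeff_single_same, HahnSeries.coeff_single_same, Algebra.smul_def]
        · rw [HahnSeries.coeff_single_of_ne h, HahnSeries.coeff_single_of_ne h, mul_zero] }
  let p : ℕ → (LaurentSeries F →ₗ[k] F) := fun n =>
    { toFun := fun x => x.coeff (n : ℤ)
      map_add' := fun a b => by rw [HahnSeries.coeff_add]
      map_smul' := fun c a => by rw [RingHom.id_apply, Algebra.smul_def c (a.coeff (n : ℤ))]; exact smul_coeff' c a n }
  have htail : ∀ x ∈ A, x - ∑ n ∈ Finset.range N, e n (p n x) ∈ A ∧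
      f * (x - ∑ n ∈ Finset.range N, e n (p n x)) ∈ A := by
    intro x hx
    set r := x - ∑ n ∈ Finset.range N, e n (p n x) with hr
    have hr0 : ∀ i : ℤ, i < N → r.coeff i = 0 := fun i hi => by
      rw [hr, HahnSeries.coeff_sub, HahnSeries.coeff_sum]
      rcases lt_or_ge i 0 with h0 | h0
      · rw [hx i h0, Finset.sum_eq_zero fun n _ => ?_, sub_zero]
        exact HahnSeries.coeff_single_of_ne (by omega)
      · rw [Finset.sum_eq_single i.toNat]
        · show x.coeff i - (HahnSeries.single (i.toNat : ℤ) (x.coeff (i.toNat : ℤ))).coeff i = 0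
          rw [show ((i.toNat : ℕ) : ℤ) = i by omega, HahnSeries.coeff_single_same, sub_self]
        · intro b _ hb; exact HahnSeries.coeff_single_of_ne (by omega)
        · intro hb; exact absurd (Finset.mem_range.2 (by omega)) hb
    refine ⟨fun i hi => hr0 i (by omega), mem_intSeries_iff.2 ?_⟩
    rw [map_mul]
    refine (mul_le_mul' ((LaurentSeries.valuation_le_iff_coeff_lt_eq_zero F (D := -(N : ℤ))).2 hN)
      ((LaurentSeries.valuation_le_iff_coeff_lt_eq_zero F (D := (N : ℤ))).2 hr0)).trans_eq ?_
    rw [← exp_add, ← exp_zero]; congr 1; ring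
  have hadm : Adm A f := by
    set B := Subalgebra.toSubmodule A
    show FiniteDimensional k ((B.map (LinearMap.mulLeft k f)).map B.mkQ)
    refine Submodule.finiteDimensional_of_le (S₂ := ⨆ n : Fin N,
      LinearMap.range (B.mkQ ∘ₗ LinearMap.mulLeft k f ∘ₗ e (n : ℕ))) ?_
    rintro _ ⟨_, ⟨x, hx, rfl⟩, rfl⟩
    have : B.mkQ (f * x) = B.mkQ (f * ∑ n ∈ Finset.range N, e n (p n x)) := by
      refine (Submodule.Quotient.eq B).2 ?_
      rw [← mul_sub]
      exact (htail x hx).2
    rw [LinearMap.mulLeft_apply, this, Finset.mul_sum, map_sum]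
    exact Submodule.sum_mem _ fun n hn =>
      Submodule.mem_iSup_of_mem (⟨n, Finset.mem_range.1 hn⟩ : Fin N) ⟨p n x, rfl⟩
  refine ⟨hadm, ?_⟩
  rw [res_eq hp hp hg hadm]
  set T := op π π f g'
  have hTsum : T = ∑ n ∈ Finset.range N, (T ∘ₗ e n) ∘ₗ (p n ∘ₗ π) := LinearMap.ext fun x => by
    rw [LinearMap.sum_apply]
    show T x = ∑ n ∈ Finset.range N, T (e n (p n (π x)))
    rw [← map_sum]
    obtain ⟨hrA, hfr⟩ := htail (π x) (hp.1 x)
    set S := ∑ n ∈ Finset.range N, e n (p n (π x))
    have hT0 : T (π x - S) = 0 := by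
      show op π π f g' _ = 0
      rw [op_apply, hp.2 _ hrA, hp.2 _ hfr, show f * g' * (π x - S) = g' * (f * (π x - S)) by ring,
        hp.2 _ (A.mul_mem hg hfr), sub_self]
    rw [map_sub, sub_eq_zero] at hT0
    rw [← hT0]
    show op π π f g' x = op π π f g' (π x)
    rw [op_apply, op_apply, hp.2 _ (hp.1 x)]
  set d : ℕ → F := fun n => (T (HahnSeries.single (n : ℤ) 1)).coeff n
  have hlin : ∀ n, n < N → (p n ∘ₗ π) ∘ₗ (T ∘ₗ e n) = Algebra.lmul k F (d n) := fun n _ => LinearMap.ext fun c => by
    show (π (T (e n c))).coeff (n : ℤ) = d n * c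
    rw [trunc_coeff, if_neg (by omega)]
    have hC : ∀ (c : F) (x : LaurentSeries F), π (HahnSeries.C c * x) = HahnSeries.C c * π x := fun c x => by
      ext i
      simp only [π, trunc_coeff, HahnSeries.C_mul_eq_smul, HahnSeries.coeff_smul]
      split_ifs <;> simp
    have : e n c = HahnSeries.C c * HahnSeries.single (n : ℤ) 1 := by
      show HahnSeries.single (n : ℤ) c = _
      rw [HahnSeries.C_apply, HahnSeries.single_mul_single, zero_add, mul_one]
    rw [this]
    show (op π π f g' _).coeff (n : ℤ) = (op π π f g' _).coeff (n : ℤ) * c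
    rw [op_apply, op_apply, hC]
    simp only [mul_left_comm _ (HahnSeries.C c), hC]
    rw [← mul_sub, HahnSeries.C_mul_eq_smul, HahnSeries.coeff_smul, smul_eq_mul, mul_comm]
  have hterm : ∀ n ∈ Finset.range N, ftr ((T ∘ₗ e n) ∘ₗ (p n ∘ₗ π)) = Algebra.trace k F (d n) := fun n hn => by
    rw [ftr_comm (U := p n ∘ₗ π) (Submodule.finiteDimensional_of_le (S₂ := (⊤ : Submodule k F)) le_top),
      hlin n (Finset.mem_range.1 hn), ftr_finite, Algebra.trace_apply]
  rw [hTsum, (ftr_sum _ fun n _ => by
    refine Submodule.finiteDimensional_of_le (S₂ := LinearMap.range (T ∘ₗ e n)) (LinearMap.range_comp_le_range _ _)).1,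
    Finset.sum_congr rfl hterm, ← map_sum]
  congr 1
  set a : ℕ → F := fun i => f.coeff (-(i : ℤ)) * PowerSeries.coeff i G
  have hd : ∀ n, n < N → d n = (∑ i ∈ Finset.range (N + 1), a i) - ∑ i ∈ Finset.range (n + 1), a i := by
    intro n hn
    show (op π π f g' (HahnSeries.single (n : ℤ) 1)).coeff (n : ℤ) = _
    have hs : π (HahnSeries.single (n : ℤ) 1) = HahnSeries.single (n : ℤ) 1 :=
      hp.2 _ fun i hi => HahnSeries.coeff_single_of_ne (by omega)
    rw [op_apply, hs, HahnSeries.coeff_sub, trunc_coeff, if_neg (by omega),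
      mul_comm (f * g'), HahnSeries.coeff_single_mul, one_mul, sub_self]
    congr 1
    · have h := hshift G N
      rw [sub_self] at h
      rw [h, Finset.Nat.sum_antidiagonal_eq_sum_range_succ
        (fun i j => f.coeff ((i : ℤ) - N) * PowerSeries.coeff j G), ← Finset.sum_range_reflect]
      refine Finset.sum_congr rfl fun i hi => ?_
      have := Finset.mem_range.1 hi
      show _ = f.coeff (-(i : ℤ)) * PowerSeries.coeff i G
      rw [show ((N + 1 - 1 - i : ℕ) : ℤ) - N = -(i : ℤ) by omega, show N - (N + 1 - 1 - i) = i by omega]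
    · obtain ⟨H, hH⟩ := exists_coe_of_int k (hp.1 (f * HahnSeries.single (n : ℤ) 1))
      have hHc : ∀ j : ℕ, PowerSeries.coeff j H = f.coeff ((j : ℤ) - n) := fun j => by
        have h := congrArg (fun z : LaurentSeries F => z.coeff (j : ℤ)) hH
        simp only [PowerSeries.coeff_coe, trunc_coeff, if_neg (show ¬ (j : ℤ) < 0 by omega), Int.natAbs_natCast] at h
        rw [h, mul_comm, HahnSeries.coeff_single_mul, one_mul]
      rw [← hH, ← PowerSeries.coe_mul, PowerSeries.coeff_coe, if_neg (by omega), Int.natAbs_natCast,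
        PowerSeries.coeff_mul, Finset.Nat.sum_antidiagonal_eq_sum_range_succ
          (fun i j => PowerSeries.coeff i G * PowerSeries.coeff j H)]
      refine Finset.sum_congr rfl fun i hi => ?_
      have := Finset.mem_range.1 hi
      rw [hHc, show ((n - i : ℕ) : ℤ) - n = -(i : ℤ) by omega, mul_comm]
  rw [Finset.sum_congr rfl fun n hn => hd n (Finset.mem_range.1 hn), sum_sub_sum_range, LocRes.res_apply]
  rcases Nat.eq_zero_or_pos N with rfl | hpos
  · rw [Finset.sum_range_zero]
    symm
    have hfA : f ∈ A := fun i hi => hN i (by simpa using hi)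
    have hDg : LocRes.D F g' ∈ A := by
      rw [LocRes.D_coe]
      intro i hi
      rw [PowerSeries.coeff_coe, if_pos hi]
    exact A.mul_mem hfA hDg (-1) (by norm_num)
  have h := hshift (PowerSeries.derivative F G) (N - 1)
  rw [show (((N - 1 : ℕ) : ℤ) - N) = -1 by omega] at h
  rw [LocRes.D_coe, h, Finset.Nat.sum_antidiagonal_eq_sum_range_succ
    (fun i j => f.coeff ((i : ℤ) - N) * PowerSeries.coeff j (PowerSeries.derivative F G)),
    show (N - 1).succ = N by omega]
  conv_rhs => rw [← Finset.sum_range_reflect]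
  refine Finset.sum_congr rfl fun i hi => ?_
  have := Finset.mem_range.1 hi
  rw [show N - 1 - (N - 1 - i) = i by omega, PowerSeries.coeff_derivative,
    show ((N - 1 - i : ℕ) : ℤ) - N = -((i + 1 : ℕ) : ℤ) by omega]
  simp only [a, nsmul_eq_mul]
  push_cast
  ring

end Groth.Agent.TraceResLib
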