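import Groth.Agent.TraceResLib.Place
import Groth.Agent.FFLib.Expand
import Groth.Agent.FFLib.ASReduce
import Groth.Agent.FFLib.QuadGenus
import Groth.Agent.FFLib.RatPoly

/-!
# The residue theorem on the line
-/

open Module LinearMap WithZero Polynomial

namespace Groth.Agent.TraceResLib

open FunFld Groth.Agent.FFLib

variable {k : Type*} [Field k]

/-- A finite place is determined by its irreducible polynomial. -/
lemma place_eq_of_irreducible {p : k[X]} (hp : Irreducible p) {P R : Place k (RatFunc k)}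
    (hP : P.1 (algebraMap k[X] (RatFunc k) p) < 1) (hR : R.1 (algebraMap k[X] (RatFunc k) p) < 1) : P = R := by
  have key : ∀ a : k[X], a ≠ 0 →
      P.ord (algebraMap k[X] (RatFunc k) a) = R.ord (algebraMap k[X] (RatFunc k) a) := fun a ha => by
    obtain ⟨n, b, hb, rfl⟩ := WfDvdMonoid.max_power_factor ha hp
    have hb0 : b ≠ 0 := fun e => hb (e ▸ dvd_zero p)
    rw [map_mul, map_pow, ord_mul P (pow_ne_zero _ (iota_ne hp.ne_zero)) (iota_ne hb0),
      ord_mul R (pow_ne_zero _ (iota_ne hp.ne_zero)) (iota_ne hb0), ord_pow, ord_pow, ord_irreducible hp hP,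
      ord_irreducible hp hR, ord_eq_zero_of_not_dvd hp hP hb, ord_eq_zero_of_not_dvd hp hR hb]
  refine place_ext_of_le P R fun y hy => ?_
  rcases eq_or_ne y 0 with rfl | hy0
  · simp
  obtain ⟨a, b, ha, hb, rfl⟩ := exists_num_den hy0
  rw [v_le_one_iff, div_eq_mul_inv, ord_mul _ (iota_ne ha) (inv_ne_zero (iota_ne hb)), ord_inv] at hy ⊢
  rw [← key a ha, ← key b hb]
  exact hy

/-- The residue with respect to the polynomial ring of a proper fraction. -/
lemma res_poly_frac {q a : k[X]} (hq : q.Monic) (hn : 0 < q.natDegree) (had : a.degree < q.degree)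
    (Pi : Place k (RatFunc k)) (hPi : Pi.ord (RatFunc.X : RatFunc k) < 0)
    (hadm : Adm (IsScalarTower.toAlgHom k k[X] (RatFunc k)).range (algebraMap k[X] (RatFunc k) a / algebraMap k[X] (RatFunc k) q)) :
    res (IsScalarTower.toAlgHom k k[X] (RatFunc k)).range
      (algebraMap k[X] (RatFunc k) a / algebraMap k[X] (RatFunc k) q) RatFunc.X = a.coeff (q.natDegree - 1) := by
  classical
  set ι := (IsScalarTower.toAlgHom k k[X] (RatFunc k)).toLinearMap with hι
  have hι' : ∀ p, ι p = algebraMap k[X] (RatFunc k) p := fun p => rfl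
  set A := (IsScalarTower.toAlgHom k k[X] (RatFunc k)).range
  -- the functions vanishing at infinity
  let M : Submodule k (RatFunc k) :=
    { carrier := {h | Pi.1 h < 1}
      add_mem' := fun hx hy => Pi.1.map_add_lt hx hy
      zero_mem' := by show Pi.1 0 < 1; simp
      smul_mem' := fun c x hx => lt_of_le_of_lt (v_smul_le Pi c x) hx }
  have hinj : LinearMap.ker (M.mkQ ∘ₗ ι) = ⊥ := by
    rw [LinearMap.ker_eq_bot']
    intro p hp
    by_contra hne
    have h1 : Pi.1 (ι p) < 1 := (Submodule.Quotient.mk_eq_zero M).1 hp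
    have h2 := (v_lt_one_iff Pi (iota_ne hne)).1 h1
    rw [ord_poly_inf' Pi hPi hne] at h2
    omega
  obtain ⟨L, hL⟩ := LinearMap.exists_leftInverse_of_injective _ hinj
  obtain ⟨Φ, hΦι, hΦM⟩ : ∃ Φ : RatFunc k →ₗ[k] k[X], (∀ p, Φ (ι p) = p) ∧ ∀ h ∈ M, Φ h = 0 :=
    ⟨L ∘ₗ M.mkQ, fun p => DFunLike.congr_fun hL p, fun h hh => by
      rw [LinearMap.comp_apply, Submodule.mkQ_apply, (Submodule.Quotient.mk_eq_zero M).2 hh, map_zero]⟩
  have hπ : IsProjA A (ι ∘ₗ Φ) := ⟨fun x => ⟨Φ x, rfl⟩, by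
    rintro _ ⟨p, rfl⟩
    show ι (Φ (ι p)) = ι p
    rw [hΦι]⟩
  have hX : (RatFunc.X : RatFunc k) = ι Polynomial.X := RatFunc.algebraMap_X.symm
  have hq0 : algebraMap k[X] (RatFunc k) q ≠ 0 := iota_ne hq.ne_zero
  -- polynomial part of a fraction
  have hΦfrac : ∀ N : k[X], Φ (algebraMap k[X] (RatFunc k) N / algebraMap k[X] (RatFunc k) q) = N /ₘ q := fun N => by
    have hsplit : algebraMap k[X] (RatFunc k) N / algebraMap k[X] (RatFunc k) q =
        ι (N /ₘ q) + algebraMap k[X] (RatFunc k) (N %ₘ q) / algebraMap k[X] (RatFunc k) q := by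
      conv_lhs => rw [← modByMonic_add_div N q]
      rw [map_add, map_mul, add_div, mul_div_cancel_left₀ _ hq0, add_comm, hι']
    have hM : Φ (algebraMap k[X] (RatFunc k) (N %ₘ q) / algebraMap k[X] (RatFunc k) q) = 0 := by
      refine hΦM _ ?_
      rcases eq_or_ne (N %ₘ q) 0 with h0 | h0
      · rw [h0, map_zero, zero_div]; exact M.zero_mem
      show Pi.1 _ < 1
      rw [v_lt_one_iff Pi (div_ne_zero (iota_ne h0) hq0), div_eq_mul_inv,
        ord_mul Pi (iota_ne h0) (inv_ne_zero hq0), ord_inv, ord_poly_inf' Pi hPi h0, ord_poly_inf' Pi hPi hq.ne_zero]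
      have := natDegree_lt_natDegree h0 (degree_modByMonic_lt N hq)
      omega
    rw [hsplit, map_add, hΦι, hM, add_zero]
  have hone : ∀ R : k[X], R.degree < q.degree → (Polynomial.X * R) /ₘ q = Polynomial.C (R.coeff (q.natDegree - 1)) := fun R hR => by
    have hdeg : (Polynomial.X * R).degree ≤ (q.natDegree : WithBot ℕ) := by
      refine degree_le_iff_coeff_zero _ _ |>.2 fun m hm => ?_
      rw [Nat.cast_lt] at hm
      obtain ⟨l, rfl⟩ := Nat.exists_eq_add_of_lt hm
      rw [show q.natDegree + l + 1 = (q.natDegree + l) + 1 from rfl, coeff_X_mul]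
      refine coeff_eq_zero_of_degree_lt (hR.trans_le (degree_le_natDegree.trans ?_))
      exact_mod_cast (show q.natDegree ≤ q.natDegree + l by omega)
    have hrem : (Polynomial.X * R - Polynomial.C (R.coeff (q.natDegree - 1)) * q).degree < q.degree := by
      rw [degree_eq_natDegree hq.ne_zero]
      refine (degree_lt_iff_coeff_zero _ _).2 fun m hm => ?_
      rw [coeff_sub, coeff_C_mul]
      rcases hm.eq_or_lt with rfl | hlt
      · obtain ⟨n', hn'⟩ := Nat.exists_eq_add_of_lt hn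
        rw [show q.natDegree = n' + 1 by omega, coeff_X_mul, ← show q.natDegree = n' + 1 by omega,
          hq.coeff_natDegree, mul_one, show q.natDegree - 1 = n' by omega, sub_self]
      · rw [coeff_eq_zero_of_natDegree_lt (p := q) hlt, mul_zero, sub_zero]
        exact coeff_eq_zero_of_degree_lt (hdeg.trans_lt (by exact_mod_cast hlt))
    exact (div_modByMonic_unique (Polynomial.C (R.coeff (q.natDegree - 1))) _ hq ⟨by ring, hrem⟩).1
  set Λ : RatFunc k →ₗ[k] k :=
    (lcoeff k (q.natDegree - 1)) ∘ₗ (modByMonicHom q) ∘ₗ (LinearMap.mulLeft k a) ∘ₗ Φ with hΛ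
  set E : k →ₗ[k] RatFunc k := Algebra.linearMap k (RatFunc k) with hE
  have hT : op (ι ∘ₗ Φ) (ι ∘ₗ Φ) (algebraMap k[X] (RatFunc k) a / algebraMap k[X] (RatFunc k) q) RatFunc.X =
      E ∘ₗ Λ := LinearMap.ext fun x => by
    rw [op_apply, hX]
    simp only [LinearMap.comp_apply]
    set p := Φ x
    simp only [hι']
    rw [show algebraMap k[X] (RatFunc k) a / algebraMap k[X] (RatFunc k) q * algebraMap k[X] (RatFunc k) Polynomial.X *
        algebraMap k[X] (RatFunc k) p = algebraMap k[X] (RatFunc k) (Polynomial.X * (a * p)) / algebraMap k[X] (RatFunc k) q by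
      rw [map_mul, map_mul]; ring,
      show algebraMap k[X] (RatFunc k) a / algebraMap k[X] (RatFunc k) q * algebraMap k[X] (RatFunc k) p =
        algebraMap k[X] (RatFunc k) (a * p) / algebraMap k[X] (RatFunc k) q by rw [map_mul]; ring,
      hΦfrac, hΦfrac, ← map_mul, ← map_sub]
    have hdec : (Polynomial.X * (a * p)) /ₘ q = Polynomial.X * ((a * p) /ₘ q) + (Polynomial.X * ((a * p) %ₘ q)) /ₘ q := by
      refine (div_modByMonic_unique (Polynomial.X * ((a * p) /ₘ q) + (Polynomial.X * ((a * p) %ₘ q)) /ₘ q)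
        ((Polynomial.X * ((a * p) %ₘ q)) %ₘ q) hq ⟨?_, degree_modByMonic_lt _ hq⟩).1
      have h1 := modByMonic_add_div (a * p) q
      have h2 := modByMonic_add_div (Polynomial.X * ((a * p) %ₘ q)) q
      linear_combination Polynomial.X * h1 + h2
    rw [hdec, add_sub_cancel_left, hone _ (degree_modByMonic_lt _ hq)]
    show algebraMap k[X] (RatFunc k) (Polynomial.C _) = algebraMap k (RatFunc k) _
    rw [IsScalarTower.algebraMap_apply k k[X] (RatFunc k)]
    rfl
  rw [res_eq hπ hπ (show (RatFunc.X : RatFunc k) ∈ A from ⟨Polynomial.X, hX.symm⟩) hadm, hT,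
    ftr_comm (U := Λ) (Submodule.finiteDimensional_of_le (S₂ := (⊤ : Submodule k k)) le_top) E, ftr_finite,
    LinearMap.trace_eq_matrix_trace k (Basis.singleton (Fin 1) k)]
  simp only [Matrix.trace, Matrix.diag_apply, LinearMap.toMatrix_apply, Basis.singleton_apply, Basis.singleton_repr,
    Finset.univ_unique, Finset.sum_singleton, LinearMap.comp_apply, hΛ, hE, Algebra.linearMap_apply, map_one]
  rw [show (1 : RatFunc k) = ι 1 from (map_one (algebraMap k[X] (RatFunc k))).symm, hΦι, LinearMap.mulLeft_apply,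
    mul_one]
  show (a %ₘ q).coeff (q.natDegree - 1) = _
  rw [(modByMonic_eq_self_iff hq).2 had]

/-- Polynomials are admissible-denominator-wise finite. -/
lemma adm_poly_frac {q : k[X]} (hq : q.Monic) (a : k[X]) :
    Adm (IsScalarTower.toAlgHom k k[X] (RatFunc k)).range
      (algebraMap k[X] (RatFunc k) a / algebraMap k[X] (RatFunc k) q) := by
  set A := (IsScalarTower.toAlgHom k k[X] (RatFunc k)).range
  set A' := Subalgebra.toSubmodule A
  set ρ : k[X] →ₗ[k] RatFunc k ⧸ A' :=
    A'.mkQ ∘ₗ LinearMap.mulRight k (algebraMap k[X] (RatFunc k) q)⁻¹ ∘ₗ (IsScalarTower.toAlgHom k k[X] (RatFunc k)).toLinearMap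
  show FiniteDimensional k ((A'.map (LinearMap.mulLeft k _)).map A'.mkQ)
  have := Module.Finite.equiv (Polynomial.degreeLTEquiv k q.natDegree).symm
  have : FiniteDimensional k ((Polynomial.degreeLT k q.natDegree).map ρ) := inferInstance
  refine Submodule.finiteDimensional_of_le (S₂ := (Polynomial.degreeLT k q.natDegree).map ρ) ?_
  rintro _ ⟨_, ⟨_, ⟨p, rfl⟩, rfl⟩, rfl⟩
  refine ⟨(a * p) %ₘ q, ?_, ?_⟩
  · rw [SetLike.mem_coe, Polynomial.mem_degreeLT, ← degree_eq_natDegree hq.ne_zero]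
    exact degree_modByMonic_lt _ hq
  refine ((Submodule.Quotient.eq A').2 ⟨-((a * p) /ₘ q), ?_⟩)
  have hq0 : algebraMap k[X] (RatFunc k) q ≠ 0 := iota_ne hq.ne_zero
  show algebraMap k[X] (RatFunc k) (-((a * p) /ₘ q)) =
    algebraMap k[X] (RatFunc k) ((a * p) %ₘ q) * (algebraMap k[X] (RatFunc k) q)⁻¹ -
      algebraMap k[X] (RatFunc k) a / algebraMap k[X] (RatFunc k) q * algebraMap k[X] (RatFunc k) p
  have h1 := congrArg (algebraMap k[X] (RatFunc k)) (modByMonic_add_div (a * p) q)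
  rw [map_add, map_mul, map_mul] at h1
  rw [map_neg]
  field_simp
  linear_combination -h1

/-- The residue at a finite place of a proper fraction with denominator a power of its prime. -/
lemma pres_prime_pow {p : k[X]} (hp : Irreducible p) {P : Place k (RatFunc k)}
    (hP : P.1 (algebraMap k[X] (RatFunc k) p) < 1) {j : ℕ} (hj : 0 < j) (hm : p.Monic) {a : k[X]}
    (had : a.degree < (p ^ j).degree) (Pi : Place k (RatFunc k)) (hPi : Pi.ord (RatFunc.X : RatFunc k) < 0) :
    pres P (algebraMap k[X] (RatFunc k) a / algebraMap k[X] (RatFunc k) (p ^ j)) RatFunc.X =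
      a.coeff ((p ^ j).natDegree - 1) := by
  set ι := algebraMap k[X] (RatFunc k)
  set A := (IsScalarTower.toAlgHom k k[X] (RatFunc k)).range
  set f := ι a / ι (p ^ j)
  have hq : (p ^ j).Monic := hm.pow j
  have hn : 0 < (p ^ j).natDegree := by rw [natDegree_pow]; exact Nat.mul_pos hj hp.natDegree_pos
  have hadm := adm_poly_frac hq a
  have hfin := fin_of_irreducible hp hP
  have hpol : ∀ c ∈ A, P.1 c ≤ 1 := by rintro _ ⟨c, rfl⟩; exact v_poly_le P hfin c
  have hq0 : ι (p ^ j) ≠ 0 := iota_ne hq.ne_zero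
  have hvq : P.1 (ι (p ^ j)) = exp (-(j : ℤ)) := by
    rw [map_pow ι, map_pow, v_eq P (iota_ne hp.ne_zero), ord_irreducible hp hP, ← exp_nsmul, nsmul_eq_mul, mul_neg, mul_one]
  rw [← res_poly_frac hq hn had Pi hPi hadm]
  refine res_map (AlgHom.id k _) Function.injective_id (⟨Polynomial.X, RatFunc.algebraMap_X⟩ : (RatFunc.X : RatFunc k) ∈ A)
    hadm (fun c hc => mem_oAlg.2 (hpol c hc))
    { carrier := {x | P.1 x ≤ exp (-(j : ℤ))}
      add_mem' := fun hx hy => (P.1.map_add _ _).trans (max_le hx hy)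
      zero_mem' := by show P.1 0 ≤ _; rw [map_zero]; exact zero_le
      smul_mem' := fun c x hx => le_trans (v_smul_le P c x) hx }
    (fun x hx => mem_oAlg.2 (le_trans hx (by rw [← exp_zero, exp_le_exp]; omega))) ?_ ?_ ?_
  · intro x hx
    rw [mem_oAlg]
    show P.1 (f * x) ≤ 1
    rw [map_mul, show P.1 f = P.1 (ι a) / exp (-(j : ℤ)) by rw [← hvq, ← map_div₀], div_mul_eq_mul_div,
      div_le_one₀ exp_pos]
    exact (mul_le_mul' (v_poly_le P hfin a) hx).trans_eq (one_mul _)
  · intro b hb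
    rcases eq_or_ne b 0 with rfl | hb0
    · exact ⟨0, A.zero_mem, by show P.1 _ ≤ _; simp⟩
    obtain ⟨c, d, hc, hd, rfl⟩ := exists_num_den hb0
    obtain ⟨n, d', hd', rfl⟩ := WfDvdMonoid.max_power_factor hd hp
    have hd'0 : d' ≠ 0 := fun e => hd' (e ▸ dvd_zero p)
    have hb' := (v_le_one_iff P _).1 (mem_oAlg.1 hb)
    rw [div_eq_mul_inv, ord_mul P (iota_ne hc) (inv_ne_zero (iota_ne hd)), ord_inv, map_mul, map_pow,
      ord_mul P (pow_ne_zero _ (iota_ne hp.ne_zero)) (iota_ne hd'0), ord_pow, ord_irreducible hp hP,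
      ord_eq_zero_of_not_dvd hp hP hd'] at hb'
    obtain ⟨c', hc'⟩ : p ^ n ∣ c := by
      obtain ⟨m, c', hc', rfl⟩ := WfDvdMonoid.max_power_factor hc hp
      rw [map_mul, map_pow, ord_mul P (pow_ne_zero _ (iota_ne hp.ne_zero))
        (iota_ne (fun e : c' = 0 => hc' (e ▸ dvd_zero p))), ord_pow, ord_irreducible hp hP,
        ord_eq_zero_of_not_dvd hp hP hc'] at hb'
      exact (pow_dvd_pow p (show n ≤ m by omega)).mul_right _
    obtain ⟨u, w, huw⟩ : IsCoprime (p ^ j) d' := ((hp.coprime_iff_not_dvd).2 hd').pow_left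
    refine ⟨ι (c' * w), ⟨c' * w, rfl⟩, ?_⟩
    show P.1 (ι c / ι (p ^ n * d') - ι (c' * w)) ≤ _
    have e1 : ι c / ι (p ^ n * d') - ι (c' * w) = ι (c' * u) / ι d' * ι (p ^ j) := by
      subst hc'
      have h1 := congrArg ι huw
      rw [map_one, map_add, map_mul, map_mul] at h1
      rw [map_mul, map_mul, map_mul, map_mul, mul_div_mul_left _ _ (iota_ne (pow_ne_zero _ hp.ne_zero))]
      have hd0 : ι d' ≠ 0 := iota_ne hd'0
      rw [div_mul_eq_mul_div, eq_div_iff hd0, sub_mul, div_mul_cancel₀ _ hd0]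
      linear_combination -(ι c') * h1
    rw [e1, map_mul, hvq]
    refine mul_le_of_le_one_left' ?_
    rw [map_div₀, (v_eq_one_iff P (iota_ne hd'0)).2 (ord_eq_zero_of_not_dvd hp hP hd'), div_one]
    exact v_poly_le P hfin _
  · intro c hc c' hc' h
    obtain ⟨c, rfl⟩ := hc
    obtain ⟨c', rfl⟩ := hc'
    have h' : P.1 (ι c' + f * ι c) ≤ 1 := mem_oAlg.1 h
    have e : ι c' + f * ι c = ι (c' * p ^ j + a * c) / ι (p ^ j) := by
      rw [map_add, map_mul, map_mul, add_div, mul_div_cancel_right₀ _ hq0]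
      ring
    show ι c' + f * ι c ∈ A
    rw [e] at h' ⊢
    obtain ⟨m, hm⟩ : p ^ j ∣ c' * p ^ j + a * c := by
      rcases eq_or_ne (c' * p ^ j + a * c) 0 with h0 | h0
      · rw [h0]; exact dvd_zero _
      obtain ⟨m, N', hN', hN⟩ := WfDvdMonoid.max_power_factor h0 hp
      rw [v_le_one_iff, div_eq_mul_inv, ord_mul P (iota_ne h0) (inv_ne_zero hq0), ord_inv, hN, map_mul, map_pow,
        ord_mul P (pow_ne_zero _ (iota_ne hp.ne_zero)) (iota_ne (fun e : N' = 0 => hN' (e ▸ dvd_zero p))),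
        ord_pow, ord_irreducible hp hP, ord_eq_zero_of_not_dvd hp hP hN', map_pow, ord_pow, ord_irreducible hp hP] at h'
      rw [hN]
      exact (pow_dvd_pow p (show j ≤ m by omega)).mul_right _
    exact ⟨m, by rw [hm, map_mul, mul_div_cancel_left₀ _ hq0]; rfl⟩

/-- The place at infinity, and the residue there in the parameter `1 / x`. -/
noncomputable def infTerm (Pi : Place k (RatFunc k)) (f : RatFunc k) : k :=
  pres Pi (-(f * RatFunc.X ^ 2)) (RatFunc.X)⁻¹

variable {Pi : Place k (RatFunc k)} (hPi : Pi.ord (RatFunc.X : RatFunc k) < 0)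
include hPi

lemma v_inv_X : Pi.1 (RatFunc.X : RatFunc k)⁻¹ = exp (-1 : ℤ) := by
  rw [map_inv₀, v_eq Pi RatFunc.X_ne_zero, (inf_ord_deg Pi hPi).1, ← exp_neg, neg_neg]

lemma infTerm_add (f g : RatFunc k) : infTerm Pi (f + g) = infTerm Pi f + infTerm Pi g := by
  rw [infTerm, infTerm, infTerm, add_mul, neg_add,
    pres_add fg1_ratFunc Pi (by rw [v_inv_X hPi, ← exp_zero, exp_le_exp]; norm_num)]

lemma infTerm_frac {q a : k[X]} (hq : q.Monic) (hn : 0 < q.natDegree) (had : a.degree < q.degree) :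
    infTerm Pi (algebraMap k[X] (RatFunc k) a / algebraMap k[X] (RatFunc k) q) = -a.coeff (q.natDegree - 1) := by
  set ι := algebraMap k[X] (RatFunc k)
  set c := a.coeff (q.natDegree - 1)
  have hw := v_inv_X hPi
  have hw1 : Pi.1 (RatFunc.X : RatFunc k)⁻¹ ≤ 1 := by rw [hw, ← exp_zero, exp_le_exp]; norm_num
  have hdeg : (C c * q - Polynomial.X * a).natDegree ≤ q.natDegree - 1 := by
    refine natDegree_le_iff_coeff_eq_zero.2 fun m hm => ?_
    rw [coeff_sub, coeff_C_mul]
    obtain ⟨m', rfl⟩ : ∃ m', m = m' + 1 := ⟨m - 1, by omega⟩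
    rw [coeff_X_mul]
    rcases lt_or_eq_of_le (show q.natDegree ≤ m' + 1 by omega) with hlt | heq
    · rw [coeff_eq_zero_of_natDegree_lt (p := q) hlt, mul_zero, zero_sub,
        coeff_eq_zero_of_degree_lt (had.trans_le (degree_le_natDegree.trans (by exact_mod_cast (show q.natDegree ≤ m' by omega)))),
        neg_zero]
    · rw [← heq, hq.coeff_natDegree, mul_one, show m' = q.natDegree - 1 by omega, sub_self]
  rw [infTerm, pres_congr fg1_ratFunc Pi (f' := -(algebraMap k (RatFunc k) c * RatFunc.X)) hw1]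
  swap
  · have e : -(ι a / ι q * RatFunc.X ^ 2) - -(algebraMap k (RatFunc k) c * RatFunc.X) =
        RatFunc.X * ι (C c * q - Polynomial.X * a) / ι q := by
      rw [map_sub, map_mul, map_mul, RatFunc.algebraMap_X,
        show ι (C c) = algebraMap k (RatFunc k) c from (IsScalarTower.algebraMap_apply k k[X] (RatFunc k) c).symm]
      field_simp [ι, iota_ne hq.ne_zero]
      ring
    rw [e]
    rcases eq_or_ne (C c * q - Polynomial.X * a) 0 with h0 | h0
    · rw [h0, map_zero, mul_zero, zero_div, map_zero]; exact zero_le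
    rw [v_le_one_iff, div_eq_mul_inv, ord_mul Pi (mul_ne_zero RatFunc.X_ne_zero (iota_ne h0))
      (inv_ne_zero (iota_ne hq.ne_zero)), ord_mul Pi RatFunc.X_ne_zero (iota_ne h0), ord_inv,
      ord_poly_inf' Pi hPi h0, ord_poly_inf' Pi hPi hq.ne_zero, (inf_ord_deg Pi hPi).1]
    omega
  obtain ⟨φ, hφ, hφw⟩ := exists_expansion (inf_ord_deg Pi hPi).2 hw
  rw [pres_eq_locRes fg1_ratFunc hφ hw1, LocRes.locRes, LocRes.resExp, Algebra.trace_self_apply, hφw,
    LocRes.res_apply, map_neg φ, map_mul φ, φ.commutes]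
  have hX : φ (RatFunc.X : RatFunc k) = HahnSeries.single (-1 : ℤ) 1 := by
    rw [← inv_inv (RatFunc.X : RatFunc k), map_inv₀ φ, hφw, HahnSeries.inv_single, inv_one]
  have hD : LocRes.D k (HahnSeries.single (1 : ℤ) (1 : k)) = 1 := by
    ext i
    rw [LocRes.D_coeff]
    rcases eq_or_ne i 0 with rfl | hi
    · simp
    · rw [HahnSeries.coeff_single_of_ne (by omega), smul_zero, HahnSeries.coeff_one, if_neg hi]
  rw [hX, hD, mul_one, LocRes.algebraMap_eq_C, HahnSeries.C_mul_eq_smul, HahnSeries.coeff_neg, HahnSeries.coeff_smul,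
    HahnSeries.coeff_single_same, smul_eq_mul, mul_one]

lemma infTerm_poly (p : k[X]) : infTerm Pi (algebraMap k[X] (RatFunc k) p) = 0 := by
  have hw := v_inv_X hPi
  have hw1 : Pi.1 (RatFunc.X : RatFunc k)⁻¹ ≤ 1 := by rw [hw, ← exp_zero, exp_le_exp]; norm_num
  obtain ⟨φ, hφ, hφw⟩ := exists_expansion (inf_ord_deg Pi hPi).2 hw
  induction p using Polynomial.induction_on' with
  | add p q hp hq => rw [map_add, infTerm_add hPi, hp, hq, add_zero]
  | monomial n c =>
    rw [infTerm, pres_eq_locRes fg1_ratFunc hφ hw1, LocRes.locRes, LocRes.resExp, Algebra.trace_self_apply, hφw,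
      LocRes.res_apply, ← C_mul_X_pow_eq_monomial, map_mul, map_pow, RatFunc.algebraMap_X, mul_assoc, ← pow_add,
      show algebraMap k[X] (RatFunc k) (C c) = algebraMap k (RatFunc k) c from
        (IsScalarTower.algebraMap_apply k k[X] (RatFunc k) c).symm,
      map_neg φ, map_mul φ, φ.commutes, map_pow φ]
    have hX : φ (RatFunc.X : RatFunc k) = HahnSeries.single (-1 : ℤ) 1 := by
      rw [← inv_inv (RatFunc.X : RatFunc k), map_inv₀ φ, hφw, HahnSeries.inv_single, inv_one]
    have hD : LocRes.D k (HahnSeries.single (1 : ℤ) (1 : k)) = 1 := by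
      ext i
      rw [LocRes.D_coeff]
      rcases eq_or_ne i 0 with rfl | hi
      · simp
      · rw [HahnSeries.coeff_single_of_ne (by omega), smul_zero, HahnSeries.coeff_one, if_neg hi]
    rw [hX, hD, mul_one, LocRes.algebraMap_eq_C, HahnSeries.C_mul_eq_smul, HahnSeries.coeff_neg,
      HahnSeries.coeff_smul, HahnSeries.single_pow, HahnSeries.coeff_single_of_ne (by simp; omega), smul_zero, neg_zero]

/-- **The residue theorem on the line.** -/
theorem line_sum (f : RatFunc k) (S : Finset (Place k (RatFunc k)))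
    (hS : ∀ P ∈ S, 0 ≤ P.ord (RatFunc.X : RatFunc k))
    (hf : ∀ P : Place k (RatFunc k), 0 ≤ P.ord (RatFunc.X : RatFunc k) → ¬ P.1 f ≤ 1 → P ∈ S) :
    ∑ P ∈ S, pres P f RatFunc.X + infTerm Pi f = 0 := by
  classical
  set Good : RatFunc k → Prop := fun f => ∀ S : Finset (Place k (RatFunc k)),
    (∀ P ∈ S, 0 ≤ P.ord (RatFunc.X : RatFunc k)) →
    (∀ P : Place k (RatFunc k), 0 ≤ P.ord (RatFunc.X : RatFunc k) → ¬ P.1 f ≤ 1 → P ∈ S) →
    ∑ P ∈ S, pres P f RatFunc.X + infTerm Pi f = 0 with hGood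
  have hXle : ∀ P : Place k (RatFunc k), 0 ≤ P.ord (RatFunc.X : RatFunc k) → P.1 (RatFunc.X : RatFunc k) ≤ 1 :=
    fun P hP => (v_le_one_iff P _).2 hP
  have hadd : ∀ f g, Good f → Good g → Good (f + g) := by
    intro f g hf hg S hS hfg
    obtain ⟨U, hU⟩ : ∃ U : Finset (Place k (RatFunc k)), ∀ P, P ∈ U ↔
        (P.ord f ≠ 0 ∨ P.ord g ≠ 0) ∧ 0 ≤ P.ord (RatFunc.X : RatFunc k) := by
      refine ⟨(((finite_support_ord fg1_ratFunc f).union (finite_support_ord fg1_ratFunc g)).inter_of_left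
        {P | 0 ≤ P.ord (RatFunc.X : RatFunc k)}).toFinset, fun P => ?_⟩
      simp [Set.Finite.mem_toFinset]
    have hpole : ∀ (h : RatFunc k) (P : Place k (RatFunc k)), ¬ P.1 h ≤ 1 → P.ord h ≠ 0 := fun h P hh h0 =>
      hh ((v_le_one_iff P h).2 h0.ge)
    have hSU : ∀ P ∈ S ∪ U, 0 ≤ P.ord (RatFunc.X : RatFunc k) := fun P hP => by
      rcases Finset.mem_union.1 hP with h | h
      · exact hS P h
      · exact ((hU P).1 h).2
    have h1 := hf (S ∪ U) hSU fun P hP hh => Finset.mem_union_right _ ((hU P).2 ⟨Or.inl (hpole f P hh), hP⟩)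
    have h2 := hg (S ∪ U) hSU fun P hP hh => Finset.mem_union_right _ ((hU P).2 ⟨Or.inr (hpole g P hh), hP⟩)
    rw [Finset.sum_subset (Finset.subset_union_left (s₂ := U)) fun P hP hnS =>
      pres_of_int P (hXle P (hSU P hP)) (not_not.1 fun hh => hnS (hfg P (hSU P hP) hh)),
      Finset.sum_congr rfl fun P hP => pres_add fg1_ratFunc P (hXle P (hSU P hP)) f g, Finset.sum_add_distrib,
      infTerm_add hPi]
    linear_combination h1 + h2
  have hpoly : ∀ p : k[X], Good (algebraMap k[X] (RatFunc k) p) := fun p S hS _ => by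
    rw [infTerm_poly hPi, add_zero]
    exact Finset.sum_eq_zero fun P hP => pres_of_int P (hXle P (hS P hP)) (v_poly_le P (hS P hP) p)
  suffices hall : ∀ q a : k[X], Good (algebraMap k[X] (RatFunc k) a / algebraMap k[X] (RatFunc k) q) by
    have h := hall f.denom f.num
    rw [RatFunc.num_div_denom] at h
    exact h S hS hf
  intro q
  induction q using UniqueFactorizationMonoid.induction_on_coprime with
  | h0 => intro a; simpa using hpoly 0
  | h1 hu =>
    intro a
    obtain ⟨c, hc, rfl⟩ := Polynomial.isUnit_iff.1 hu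
    convert hpoly (C c⁻¹ * a) using 1
    rw [div_eq_iff (iota_ne (C_ne_zero.2 hc.ne_zero)), ← map_mul, mul_comm (C c⁻¹), mul_assoc, ← C_mul,
      inv_mul_cancel₀ hc.ne_zero, C_1, mul_one]
  | hcp hxy ih1 ih2 =>
    rename_i x y
    intro a
    rcases eq_or_ne x 0 with hx0 | hx0
    · simpa [hx0] using hpoly 0
    rcases eq_or_ne y 0 with hy0 | hy0
    · simpa [hy0] using hpoly 0
    obtain ⟨u, v, huv⟩ := hxy.isCoprime
    have e : algebraMap k[X] (RatFunc k) a / algebraMap k[X] (RatFunc k) (x * y) =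
        algebraMap k[X] (RatFunc k) (a * u) / algebraMap k[X] (RatFunc k) y +
          algebraMap k[X] (RatFunc k) (a * v) / algebraMap k[X] (RatFunc k) x := by
      have h1 := congrArg (algebraMap k[X] (RatFunc k)) huv
      rw [map_one, map_add, map_mul, map_mul] at h1
      rw [map_mul, map_mul, map_mul, div_add_div _ _ (iota_ne hy0) (iota_ne hx0), div_eq_div_iff
        (mul_ne_zero (iota_ne hx0) (iota_ne hy0)) (mul_ne_zero (iota_ne hy0) (iota_ne hx0))]
      linear_combination -(algebraMap k[X] (RatFunc k) a * algebraMap k[X] (RatFunc k) y *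
        algebraMap k[X] (RatFunc k) x) * h1
    rw [e]
    exact hadd _ _ (ih2 _) (ih1 _)
  | hpr i hp =>
    rename_i p
    intro a
    rcases Nat.eq_zero_or_pos i with rfl | hi
    · simpa using hpoly a
    set l := p.leadingCoeff with hl
    have hl0 : l ≠ 0 := leadingCoeff_ne_zero.2 hp.ne_zero
    set p' := p * C l⁻¹ with hp'
    have hm : p'.Monic := monic_mul_leadingCoeff_inv hp.ne_zero
    have hp'i : Irreducible p' :=
      ((associated_mul_unit_right p _ (isUnit_C.2 (isUnit_iff_ne_zero.2 (inv_ne_zero hl0)))).irreducible hp.irreducible)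
    have hq : (p' ^ i).Monic := hm.pow i
    set a' := a * C (l⁻¹) ^ i with ha'
    have hfrac : algebraMap k[X] (RatFunc k) a / algebraMap k[X] (RatFunc k) (p ^ i) =
        algebraMap k[X] (RatFunc k) (a' /ₘ p' ^ i) +
          algebraMap k[X] (RatFunc k) (a' %ₘ p' ^ i) / algebraMap k[X] (RatFunc k) (p' ^ i) := by
      have h1 : algebraMap k[X] (RatFunc k) a / algebraMap k[X] (RatFunc k) (p ^ i) =
          algebraMap k[X] (RatFunc k) a' / algebraMap k[X] (RatFunc k) (p' ^ i) := by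
        rw [ha', hp', mul_pow, map_mul, map_mul (algebraMap k[X] (RatFunc k)) (p ^ i),
          mul_div_mul_right _ _ (iota_ne (pow_ne_zero _ (C_ne_zero.2 (inv_ne_zero hl0))))]
      rw [h1]
      conv_lhs => rw [← modByMonic_add_div a' (p' ^ i)]
      rw [map_add, map_mul, add_div, mul_div_cancel_left₀ _ (iota_ne hq.ne_zero), add_comm]
    rw [hfrac]
    refine hadd _ _ (hpoly _) fun S hS hf => ?_
    set r := a' %ₘ p' ^ i
    have hrd : r.degree < (p' ^ i).degree := degree_modByMonic_lt _ hq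
    have hn : 0 < (p' ^ i).natDegree := by rw [natDegree_pow]; exact Nat.mul_pos hi hp'i.natDegree_pos
    rw [infTerm_frac hPi hq hn hrd]
    obtain ⟨R, hR⟩ := exists_zero_of_tr fg1_ratFunc (x := algebraMap k[X] (RatFunc k) p') (fun halg => by
      obtain ⟨c, hc⟩ := (isFunctionField_ratFunc (k := k)).2 _ halg
      rw [IsScalarTower.algebraMap_apply k k[X] (RatFunc k)] at hc
      exact hp'i.natDegree_pos.ne' ((RatFunc.algebraMap_injective k hc) ▸ natDegree_C c))
    have hRv : R.1 (algebraMap k[X] (RatFunc k) p') < 1 := (v_lt_one_iff R (iota_ne hp'i.ne_zero)).2 hR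
    have hint : ∀ P : Place k (RatFunc k), 0 ≤ P.ord (RatFunc.X : RatFunc k) → P ≠ R →
        P.1 (algebraMap k[X] (RatFunc k) r / algebraMap k[X] (RatFunc k) (p' ^ i)) ≤ 1 := fun P hP hne => by
      have h1 : P.1 (algebraMap k[X] (RatFunc k) (p' ^ i)) = 1 := by
        rw [map_pow, map_pow]
        refine (congrArg (· ^ i) (le_antisymm (v_poly_le P hP _) (not_lt.1 fun h => hne ?_))).trans (one_pow i)
        exact place_eq_of_irreducible hp'i h hRv
      rw [map_div₀, h1, div_one]
      exact v_poly_le P hP r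
    rw [Finset.sum_eq_single R]
    · rw [pres_prime_pow hp'i hRv hi hm hrd Pi hPi, add_neg_cancel]
    · exact fun P hP hne => pres_of_int P (hXle P (hS P hP)) (hint P (hS P hP) hne)
    · intro hR'
      have hfinR := fin_of_irreducible hp'i hRv
      exact pres_of_int R (hXle R hfinR) (not_not.1 fun hh => hR' (hf R hfinR hh))

end Groth.Agent.TraceResLib
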