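import Groth.Agent.TraceResLib.Block
import Groth.Agent.TraceResLib.Laurent
import Groth.Agent.FFLib.DiffExp
import Groth.Agent.FFLib.ExtClosure

/-!
# Trace residues at places
-/

open Module LinearMap WithZero

namespace Groth.Agent.TraceResLib

open FunFld Groth.Agent.FFLib

variable {k K : Type*} [Field k] [Field K] [Algebra k K]

noncomputable local instance (priority := 10000) smulLaurent' {F : Type*} [Field F] [Algebra k F] :
    SMul k (LaurentSeries F) := Algebra.toSMul

noncomputable local instance (priority := 10000) moduleLaurent' {F : Type*} [Field F] [Algebra k F] :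
    Module k (LaurentSeries F) := Algebra.toModule

/-- The functions integral at every place of a set. -/
def semiAlg (S : Set (Place k K)) : Subalgebra k K where
  carrier := {x | ∀ Q ∈ S, Q.1 x ≤ 1}
  mul_mem' hx hy Q hQ := by rw [map_mul]; exact mul_le_one' (hx Q hQ) (hy Q hQ)
  add_mem' hx hy Q hQ := (Q.1.map_add _ _).trans (max_le (hx Q hQ) (hy Q hQ))
  algebraMap_mem' c Q _ := Q.2.1 c

lemma mem_semiAlg {S : Set (Place k K)} {x : K} : x ∈ semiAlg S ↔ ∀ Q ∈ S, Q.1 x ≤ 1 := Iff.rfl

/-- The valuation ring of a place, as a subalgebra. -/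
abbrev oAlg (P : Place k K) : Subalgebra k K := semiAlg {P}

lemma mem_oAlg {P : Place k K} {x : K} : x ∈ oAlg P ↔ P.1 x ≤ 1 := by simp [mem_semiAlg]

/-- The trace residue of `f dg` at `P`. -/
noncomputable def pres (P : Place k K) (f g : K) : k := res (oAlg P) f g

/-- Bounded poles at a finite set. -/
def bdd (S : Finset (Place k K)) (n : ℕ) : Submodule k K where
  carrier := {x | ∀ Q ∈ S, Q.1 x ≤ exp (n : ℤ)}
  add_mem' hx hy Q hQ := (Q.1.map_add _ _).trans (max_le (hx Q hQ) (hy Q hQ))
  zero_mem' Q _ := by rw [map_zero]; exact zero_le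
  smul_mem' c x hx Q hQ := by
    rw [Algebra.smul_def, map_mul]
    exact (mul_le_of_le_one_left' (Q.2.1 c)).trans (hx Q hQ)

variable (hK : FG1 k K)
include hK

lemma finite_bdd_quot (S : Finset (Place k K)) (n : ℕ) :
    ((bdd S n).map (Subalgebra.toSubmodule (semiAlg (S : Set (Place k K)))).mkQ).FG := by
  classical
  set A := Subalgebra.toSubmodule (semiAlg (S : Set (Place k K)))
  induction n with
  | zero =>
    rw [show (bdd S 0).map A.mkQ = ⊥ from ?_]
    · exact Submodule.fg_bot
    rw [eq_bot_iff]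
    rintro _ ⟨x, hx, rfl⟩
    rw [Submodule.mem_bot, Submodule.mkQ_apply, Submodule.Quotient.mk_eq_zero]
    intro Q hQ
    simpa using hx Q hQ
  | succ n ih =>
    choose t ht using fun Q : Place k K => Q.2.2 (exp (-1 : ℤ))
    have hint : ∀ (Q : S) (x : bdd S (n + 1)), Q.1.1 ((x : K) * t Q.1 ^ (n + 1)) ≤ 1 := fun Q x => by
      rw [map_mul, map_pow, ht, ← exp_nsmul, nsmul_eq_mul, mul_neg, mul_one]
      refine (mul_le_mul' (x.2 Q.1 Q.2) le_rfl).trans_eq ?_
      rw [← exp_add, ← exp_zero]; congr 1; push_cast; ring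
    letI : ∀ Q : S, Module k (IsLocalRing.ResidueField Q.1.O) := fun Q => Algebra.toModule
    have : ∀ Q : S, Module.Finite k (IsLocalRing.ResidueField Q.1.O) := fun Q => by
      have hfd := finiteDimensional_residue (k := k) (K := K) hK Q.1
      convert hfd
      exact Module.ext' _ _ fun c x => by
        obtain ⟨y, rfl⟩ := IsLocalRing.residue_surjective x
        exact Algebra.smul_def c (IsLocalRing.residue Q.1.O y)
    let ψ : bdd S (n + 1) →ₗ[k] (Π Q : S, IsLocalRing.ResidueField Q.1.O) :=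
      { toFun := fun x Q => IsLocalRing.residue Q.1.O ⟨(x : K) * t Q.1 ^ (n + 1), hint Q x⟩
        map_add' := fun x y => funext fun Q => by
          rw [Pi.add_apply, ← map_add]
          exact congrArg _ (Subtype.ext (add_mul _ _ _))
        map_smul' := fun c x => funext fun Q => by
          rw [RingHom.id_apply, Pi.smul_apply, Algebra.smul_def c (IsLocalRing.residue Q.1.O _)]
          show _ = IsLocalRing.residue Q.1.O (algebraMap k Q.1.O c) * _
          rw [← map_mul]
          refine congrArg _ (Subtype.ext ?_)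
          show (c • (x : K)) * _ = algebraMap k K c * ((x : K) * _)
          rw [Algebra.smul_def, mul_assoc] }
    have hker : ∀ x : bdd S (n + 1), ψ x = 0 → (x : K) ∈ bdd S n := fun x hx Q hQ => by
      have h := congrFun hx ⟨Q, hQ⟩
      have hlt : Q.1 ((x : K) * t Q ^ (n + 1)) < 1 := (residue_eq_zero_iff_lt Q _).1 h
      rcases eq_or_ne (x : K) 0 with h0 | h0
      · rw [h0, map_zero]; exact zero_le
      rw [map_mul, map_pow, ht, v_eq Q h0, ← exp_nsmul, ← exp_add, ← exp_zero, exp_lt_exp, nsmul_eq_mul] at hlt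
      rw [v_le_exp_iff Q h0]
      push_cast at hlt
      omega
    set q : bdd S (n + 1) →ₗ[k] (K ⧸ A) ⧸ (bdd S n).map A.mkQ :=
      ((bdd S n).map A.mkQ).mkQ ∘ₗ A.mkQ ∘ₗ (bdd S (n + 1)).subtype
    have hle : LinearMap.ker ψ ≤ LinearMap.ker q := fun x hx => by
      rw [LinearMap.mem_ker]
      exact (Submodule.Quotient.mk_eq_zero _).2 ⟨_, hker x hx, rfl⟩
    have : FiniteDimensional k (bdd S (n + 1) ⧸ LinearMap.ker ψ) := Module.Finite.equiv ψ.quotKerEquivRange.symm
    have hq : (LinearMap.range q).FG := by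
      rw [← Submodule.range_liftQ _ q hle]
      exact Module.Finite.iff_fg.1 inferInstance
    refine Submodule.fg_of_fg_map_of_fg_inf_ker ((bdd S n).map A.mkQ).mkQ ?_ ?_
    · rw [show ((bdd S (n + 1)).map A.mkQ).map ((bdd S n).map A.mkQ).mkQ = LinearMap.range q by
        rw [LinearMap.range_comp, LinearMap.range_comp, Submodule.range_subtype]]
      exact hq
    · rw [Submodule.ker_mkQ, inf_eq_right.2 (Submodule.map_mono fun x hx Q hQ => (hx Q hQ).trans (by
        rw [exp_le_exp]; push_cast; omega))]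
      exact ih

omit hK in
lemma exists_bound (S : Finset (Place k K)) (f : K) : ∃ n : ℕ, ∀ Q ∈ S, Q.1 f ≤ exp (n : ℤ) := by
  refine ⟨S.sup fun Q => (log (Q.1 f)).toNat, fun Q hQ => ?_⟩
  rcases eq_or_ne (Q.1 f) 0 with h | h
  · rw [h]; exact zero_le
  rw [← exp_log h, exp_le_exp]
  have := Finset.le_sup (f := fun Q : Place k K => (log (Q.1 f)).toNat) hQ
  omega

lemma adm_semiAlg (S : Finset (Place k K)) (f : K) : Adm (semiAlg (S : Set (Place k K))) f := by
  set A := Subalgebra.toSubmodule (semiAlg (S : Set (Place k K)))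
  obtain ⟨n, hn⟩ := exists_bound S f
  have hfd : FiniteDimensional k ((bdd S n).map A.mkQ) := Module.Finite.iff_fg.2 (finite_bdd_quot hK S n)
  refine Submodule.finiteDimensional_of_le (S₂ := (bdd S n).map A.mkQ) (Submodule.map_mono ?_)
  rintro _ ⟨a, ha, rfl⟩ Q hQ
  rw [LinearMap.mulLeft_apply, map_mul]
  exact (mul_le_of_le_one_right' (ha Q hQ)).trans (hn Q hQ)

lemma adm_oAlg (P : Place k K) (f : K) : Adm (oAlg P) f := by
  simpa using adm_semiAlg hK {P} f

lemma pres_add (P : Place k K) {g : K} (hg : P.1 g ≤ 1) (f f' : K) :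
    pres P (f + f') g = pres P f g + pres P f' g :=
  res_add (mem_oAlg.2 hg) (adm_oAlg hK P f) (adm_oAlg hK P f')

omit hK in
lemma pres_of_int (P : Place k K) {f g : K} (hg : P.1 g ≤ 1) (hf : P.1 f ≤ 1) : pres P f g = 0 :=
  res_of_mem (mem_oAlg.2 hg) (mem_oAlg.2 hf)

lemma pres_congr (P : Place k K) {f f' g : K} (hg : P.1 g ≤ 1) (h : P.1 (f - f') ≤ 1) :
    pres P f g = pres P f' g := by
  conv_lhs => rw [show f = (f - f') + f' by ring]
  rw [pres_add hK P hg, pres_of_int P hg h, zero_add]

lemma pres_smul (P : Place k K) {g : K} (hg : P.1 g ≤ 1) (c : k) (f : K) :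
    pres P (c • f) g = c * pres P f g :=
  res_smul c (mem_oAlg.2 hg) (adm_oAlg hK P f)

/-- Restriction to one place of a function whose other poles are absent. -/
lemma res_semi_single {S : Finset (Place k K)} {Q : Place k K} (hQ : Q ∈ S) {f g : K}
    (hg : g ∈ semiAlg (S : Set (Place k K))) (hf : ∀ R ∈ S, R ≠ Q → R.1 f ≤ 1) :
    res (semiAlg (S : Set (Place k K))) f g = pres Q f g := by
  classical
  obtain ⟨N, hN⟩ := exists_bound {Q} f
  refine (res_map (AlgHom.id k K) Function.injective_id hg (adm_semiAlg hK S f)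
    (fun a ha => mem_oAlg.2 (ha Q hQ))
    { carrier := {x | Q.1 x ≤ exp (-(N : ℤ))}
      add_mem' := fun hx hy => (Q.1.map_add _ _).trans (max_le hx hy)
      zero_mem' := by show Q.1 0 ≤ _; rw [map_zero]; exact zero_le
      smul_mem' := fun c x hx => by
        show Q.1 (c • x) ≤ _
        exact (v_smul_le Q c x).trans hx }
    (fun j hj => mem_oAlg.2 (le_trans hj (by rw [← exp_zero, exp_le_exp]; omega))) ?_ ?_ ?_).symm
  · intro j hj
    rw [mem_oAlg]
    show Q.1 (f * j) ≤ 1
    rw [map_mul]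
    refine (mul_le_mul' (hN Q (Finset.mem_singleton_self Q)) hj).trans_eq ?_
    rw [← exp_add, ← exp_zero]; congr 1; ring
  · intro b hb
    obtain ⟨a, ha⟩ := weak_approx S (fun R => if R = Q then b else 0) (fun R => if R = Q then (N : ℤ) else 0)
    have haQ := ha Q hQ
    rw [if_pos rfl, if_pos rfl] at haQ
    refine ⟨a, fun R hR => ?_, ?_⟩
    · rcases eq_or_ne R Q with rfl | hne
      · rw [show a = (a - b) + b by ring]
        refine (R.1.map_add _ _).trans (max_le (haQ.trans ?_) (mem_oAlg.1 hb))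
        rw [← exp_zero, exp_le_exp]; omega
      · have := ha R hR
        rw [if_neg hne, if_neg hne, sub_zero, neg_zero, exp_zero] at this
        exact this
    · show Q.1 (b - a) ≤ _
      rw [Valuation.map_sub_swap]
      exact haQ
  · intro a ha a' ha' h R hR
    rcases eq_or_ne R Q with rfl | hne
    · exact mem_oAlg.1 h
    refine (R.1.map_add _ _).trans (max_le (ha' R hR) ?_)
    rw [map_mul]
    exact mul_le_one' (hf R hR hne) (ha R hR)

/-- Semilocal residues are sums of local ones. -/
theorem res_semi (S : Finset (Place k K)) {g : K} (hg : g ∈ semiAlg (S : Set (Place k K))) (f : K) :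
    res (semiAlg (S : Set (Place k K))) f g = ∑ Q ∈ S, pres Q f g := by
  classical
  choose fQ hfQ using fun Q : Place k K => weak_approx S (fun R => if R = Q then f else 0) (fun _ => 0)
  have hat : ∀ Q ∈ S, Q.1 (fQ Q - f) ≤ 1 := fun Q hQ => by simpa using hfQ Q Q hQ
  have hoff : ∀ Q, ∀ R ∈ S, R ≠ Q → R.1 (fQ Q) ≤ 1 := fun Q R hR hne => by simpa [hne] using hfQ Q R hR
  have hrest : f - ∑ Q ∈ S, fQ Q ∈ semiAlg (S : Set (Place k K)) := fun R hR => by
    rw [← Finset.add_sum_erase S fQ hR, sub_add_eq_sub_sub]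
    refine (R.1.map_sub _ _).trans (max_le ?_ (R.1.map_sum_le fun Q hQ =>
      hoff Q R hR (Finset.ne_of_mem_erase hQ).symm))
    rw [Valuation.map_sub_swap]; exact hat R hR
  have key : ∀ T : Finset (Place k K), res (semiAlg (S : Set (Place k K))) (∑ Q ∈ T, fQ Q) g =
      ∑ Q ∈ T, res (semiAlg (S : Set (Place k K))) (fQ Q) g := fun T => by
    induction T using Finset.induction_on with
    | empty => rw [Finset.sum_empty, Finset.sum_empty, res_of_mem hg (Subalgebra.zero_mem _)]
    | insert a T ha ih =>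
      rw [Finset.sum_insert ha, Finset.sum_insert ha, res_add hg (adm_semiAlg hK S _) (adm_semiAlg hK S _), ih]
  conv_lhs => rw [show f = (f - ∑ Q ∈ S, fQ Q) + ∑ Q ∈ S, fQ Q by ring]
  rw [res_add hg (adm_semiAlg hK S _) (adm_semiAlg hK S _), res_of_mem hg hrest, zero_add, key]
  exact Finset.sum_congr rfl fun Q hQ =>
    (res_semi_single hK hQ hg (hoff Q)).trans (pres_congr hK Q (hg Q hQ) (hat Q hQ))

/-- Trace residues are the residues read through expansions. -/
theorem pres_eq_locRes {P : Place k K} {F : Type*} [Field F] [Algebra k F] [FiniteDimensional k F]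
    {φ : K →ₐ[k] LaurentSeries F} (hφ : LocRes.IsExpansionAt P.1 φ) {f g : K} (hg : P.1 g ≤ 1) :
    pres P f g = LocRes.locRes φ f g := by
  obtain ⟨N, hN⟩ := exists_bound {P} f
  obtain ⟨hφv, hres, t, ht⟩ := hφ
  have hgA : φ g ∈ intSeries k F := mem_intSeries_iff.2 ((hφv g).trans_le hg)
  refine ((res_map φ φ.toRingHom.injective (mem_oAlg.2 hg) (adm_oAlg hK P f)
    (fun a ha => mem_intSeries_iff.2 ((hφv a).trans_le (mem_oAlg.1 ha)))
    { carrier := {x | ∀ n : ℤ, n < N → x.coeff n = 0}
      add_mem' := fun hx hy n hn => by rw [HahnSeries.coeff_add, hx n hn, hy n hn, add_zero]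
      zero_mem' := fun n _ => HahnSeries.coeff_zero
      smul_mem' := fun c x hx n hn => by
        rw [Algebra.smul_def, algebraMap_laurent, HahnSeries.C_mul_eq_smul, HahnSeries.coeff_smul, hx n hn,
          smul_zero] }
    (fun j hj n hn => hj n (by omega)) ?_ ?_ ?_).symm).trans ((res_laurent hgA).2.trans rfl)
  · intro j hj
    rw [mem_intSeries_iff, map_mul, hφv]
    refine (mul_le_mul' (hN P (Finset.mem_singleton_self P))
      ((LaurentSeries.valuation_le_iff_coeff_lt_eq_zero F (D := (N : ℤ))).2 hj)).trans_eq ?_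
    rw [← exp_add, ← exp_zero]; congr 1; ring
  · have key : ∀ (m : ℕ) (b : LaurentSeries F), Valued.v b ≤ 1 →
        ∃ a : K, P.1 a ≤ 1 ∧ Valued.v (b - φ a) ≤ exp (-(m : ℤ)) := by
      intro m
      induction m with
      | zero => intro b hb; exact ⟨0, by simp, by simpa using hb⟩
      | succ m ih =>
        intro b hb
        obtain ⟨a₀, ha₀, hc⟩ := hres (b.coeff 0)
        have hφa : Valued.v (φ a₀) ≤ 1 := (hφv a₀).trans_le ha₀
        have h1 : Valued.v (b - φ a₀) ≤ exp (-(1 : ℤ)) := by
          rw [LaurentSeries.valuation_le_iff_coeff_lt_eq_zero]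
          intro i hi
          rw [HahnSeries.coeff_sub]
          rcases lt_or_eq_of_le (show i ≤ 0 by omega) with h' | h'
          · rw [LaurentSeries.coeff_zero_of_lt_valuation F (D := 0) (by simpa using hb) h',
              LaurentSeries.coeff_zero_of_lt_valuation F (D := 0) (by simpa using hφa) h', sub_zero]
          · rw [h', hc, sub_self]
        have hφt : Valued.v (φ t) = exp (-1 : ℤ) := (hφv t).trans ht
        have hφt0 : φ t ≠ 0 := fun h => by rw [h, map_zero] at hφt; exact exp_ne_zero hφt.symm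
        obtain ⟨a₁, ha₁, hb₁⟩ := ih ((b - φ a₀) / φ t) (by
          rw [map_div₀, hφt]; exact div_le_one_of_le₀ h1 zero_le)
        refine ⟨a₀ + t * a₁, (P.1.map_add _ _).trans (max_le ha₀ ?_), ?_⟩
        · rw [map_mul, ht]
          exact mul_le_one' (by rw [← exp_zero, exp_le_exp]; norm_num) ha₁
        · rw [map_add φ, map_mul φ, show b - (φ a₀ + φ t * φ a₁) = φ t * ((b - φ a₀) / φ t - φ a₁) by
            rw [mul_sub, mul_div_cancel₀ _ hφt0]; ring, map_mul, hφt]
          refine (mul_le_mul' le_rfl hb₁).trans_eq ?_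
          rw [← exp_add]; congr 1; push_cast; ring
    intro b hb
    obtain ⟨a, ha, hab⟩ := key N b (mem_intSeries_iff.1 hb)
    exact ⟨a, mem_oAlg.2 ha, (LaurentSeries.valuation_le_iff_coeff_lt_eq_zero F).1 hab⟩
  · intro a _ a' _ h
    rw [mem_intSeries_iff, hφv] at h
    exact mem_oAlg.2 h

omit hK
variable {K' : Type*} [Field K'] [Algebra K K'] [Algebra k K'] [IsScalarTower k K K'] [FiniteDimensional K K']

include hK in
/-- The trace formula. -/
theorem sum_pres_overs (P : Place k K) {g : K} (hg : P.1 g ≤ 1) (y : K') :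
    ∑ Q ∈ overs (K' := K') hK P, pres Q y (algebraMap K K' g) = pres P (Algebra.trace K K' y) g := by
  classical
  obtain ⟨b, -, hiff⟩ := exists_integral_basis (K' := K') hK P
  have hgS : algebraMap K K' g ∈ semiAlg ((overs (K' := K') hK P : Finset _) : Set (Place k K')) := fun Q hQ => by
    obtain ⟨e, he⟩ := (mem_overs hK).1 hQ
    exact (isOverWith_le_one_iff he g).2 hg
  have hA' : ∀ z, z ∈ semiAlg ((overs (K' := K') hK P : Finset _) : Set (Place k K')) ↔
      ∀ i, b.repr z i ∈ oAlg P := fun z => by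
    simp only [mem_oAlg]
    rw [← hiff]
    exact ⟨fun h Q hQ => h Q ((mem_overs hK).2 hQ), fun h Q hQ => h Q ((mem_overs hK).1 hQ)⟩
  obtain ⟨-, h⟩ := res_block b hA' (mem_oAlg.2 hg) (y := y) fun i j => adm_oAlg hK P _
  rw [pres, ← h, res_semi (fg1_ext hK) _ hgS]

end Groth.Agent.TraceResLib
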